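import Groth.Agent.GenLocus.Tensor

/-!
# Loci of generation of tensor products and powers; affineness
-/

set_option autoImplicit false
set_option backward.isDefEq.respectTransparency false
set_option backward.isDefEq.respectTransparency.types false

noncomputable section

universe u

open CategoryTheory Limits AlgebraicGeometry Opposite TopologicalSpace
open Groth.Agent.QCohBase
open scoped TensorProduct

namespace Groth.Agent.GenLocus

variable {X : Scheme.{u}}

lemma tmul_smul_smul (M N : X.Modules) {U : X.Opens} (f g : Γ(X, U)) (a : Γ(M, U)) (b : Γ(N, U)) :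
    SecTwist.tmul M N U (f • a) (g • b) = (f * g) • SecTwist.tmul M N U a b :=
  (congrArg (toT M N U) (TensorProduct.smul_tmul_smul f g a b)).trans (toT_smul_tmul M N (f * g) a b)

theorem genLocus_tmulHom {L M : X.Modules} (hL : PicF.IsInvertible L) (hM : PicF.IsInvertible M)
    (a : Coh.structureModule X ⟶ L) (b : Coh.structureModule X ⟶ M) :
    CohB1.genLocus (CohB1.tensorMod L M) (SecTwist.tmulHom a b) =
      CohB1.genLocus L a ⊓ CohB1.genLocus M b := by
  suffices h : ∀ x : X, ∃ U : X.Opens, x ∈ U ∧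
      CohB1.genLocus (CohB1.tensorMod L M) (SecTwist.tmulHom a b) ⊓ U =
        (CohB1.genLocus L a ⊓ CohB1.genLocus M b) ⊓ U by
    refine Opens.ext (Set.ext fun x ↦ ?_)
    obtain ⟨U, hx, hU⟩ := h x
    have h1 := SetLike.ext_iff.mp hU x
    exact ⟨fun h ↦ (h1.mp ⟨h, hx⟩).1, fun h ↦ (h1.mpr ⟨h, hx⟩).1⟩
  intro x
  obtain ⟨V, -, hxV, -, e, he⟩ := exists_isFrame hL (W := ⊤) (x := x) trivial
  obtain ⟨U, -, hxU, hUV, e', he'⟩ := exists_isFrame hM hxV
  have he₀ := he.res hUV
  obtain ⟨f, hf, hgf⟩ := genLocus_inf_frame a he₀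
  obtain ⟨g, hg, hgg⟩ := genLocus_inf_frame b he'
  refine ⟨U, hxU, ?_⟩
  rw [inf_inf_distrib_right, hgf, hgg, ← X.basicOpen_mul f g]
  refine genLocus_inf_eq_basicOpen _ (he₀.tmul he') ?_
  rw [sect, SecTwist.val_tmulHom]
  exact (tmul_smul_smul L M f g _ _).symm.trans (congrArg₂ (SecTwist.tmul L M U) hf hg)

theorem genLocus_comp_iso {L L' : X.Modules} (e : L ≅ L') (s : Coh.structureModule X ⟶ L) :
    CohB1.genLocus L' (s ≫ e.hom) = CohB1.genLocus L s := by
  have : ∀ U : X.Opens, IsIso ((Scheme.Modules.restrictFunctor U.ι).map (s ≫ e.hom)) ↔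
      IsIso ((Scheme.Modules.restrictFunctor U.ι).map s) := fun U ↦ by
    rw [Functor.map_comp]; exact isIso_comp_right_iff _ _
  simp only [CohB1.genLocus, this]

theorem genLocus_id : CohB1.genLocus (Coh.structureModule X) (𝟙 _) = ⊤ := by
  refine eq_top_iff.mpr (le_sSup ?_)
  show IsIso _
  rw [CategoryTheory.Functor.map_id]; infer_instance

/-- The trivial case of powers. -/
theorem genLocus_powHom_zero {L : X.Modules} (s : Coh.structureModule X ⟶ L) :
    CohB1.genLocus (CohB1.tensorPow L 0) (SecTwist.powHom s 0) = ⊤ :=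
  genLocus_id

theorem genLocus_powHom {L : X.Modules} (hL : PicF.IsInvertible L) (s : Coh.structureModule X ⟶ L) :
    ∀ n : ℕ, CohB1.genLocus (CohB1.tensorPow L (n + 1)) (SecTwist.powHom s (n + 1)) = CohB1.genLocus L s
  | 0 => (genLocus_tmulHom (TensorMod.isInvertible_tensorPow hL 0) hL _ _).trans
      (by rw [genLocus_powHom_zero, top_inf_eq])
  | n + 1 => (genLocus_tmulHom (TensorMod.isInvertible_tensorPow hL (n + 1)) hL _ _).trans
      (by rw [genLocus_powHom hL s n, inf_idem])

theorem isAffineHom_genLocus_ι {L : X.Modules} (hL : PicF.IsInvertible L)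
    (s : Coh.structureModule X ⟶ L) : IsAffineHom (CohB1.genLocus L s).ι := by
  refine isAffineHom_of_forall_exists_isAffineOpen _ fun x ↦ ?_
  obtain ⟨U, hU, hxU, -, e, he⟩ := exists_isFrame hL (W := ⊤) (x := x) trivial
  obtain ⟨f, -, hf⟩ := genLocus_inf_frame s he
  refine ⟨U, hxU, hU, ?_⟩
  rw [← (CohB1.genLocus L s).ι.isAffineOpen_iff_of_isOpenImmersion,
    Scheme.Hom.image_preimage_eq_opensRange_inf, Scheme.Opens.opensRange_ι, hf]
  exact hU.basicOpen f

theorem isAffineOpen_genLocus_inf {L : X.Modules} (hL : PicF.IsInvertible L)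
    (s : Coh.structureModule X ⟶ L) {V : X.Opens} (hV : IsAffineOpen V) :
    IsAffineOpen (CohB1.genLocus L s ⊓ V) := by
  haveI := isAffineHom_genLocus_ι hL s
  have := hV.preimage (CohB1.genLocus L s).ι
  rwa [← (CohB1.genLocus L s).ι.isAffineOpen_iff_of_isOpenImmersion,
    Scheme.Hom.image_preimage_eq_opensRange_inf, Scheme.Opens.opensRange_ι] at this

/-- A section of `L^{m+n}` with locus the intersection of the loci of sections of `L^m`, `L^n`. -/
theorem exists_genLocus_eq_inf {L : X.Modules} (hL : PicF.IsInvertible L) {m n : ℕ}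
    (a : Coh.structureModule X ⟶ CohB1.tensorPow L (m + 1))
    (b : Coh.structureModule X ⟶ CohB1.tensorPow L (n + 1)) :
    ∃ (k : ℕ) (c : Coh.structureModule X ⟶ CohB1.tensorPow L (k + 1)),
      CohB1.genLocus _ c = CohB1.genLocus _ a ⊓ CohB1.genLocus _ b := by
  refine ⟨m + 1 + n, SecTwist.tmulHom a b ≫ (TensorMod.tensorPowAddIso L (m + 1) (n + 1)).inv, ?_⟩
  rw [show (TensorMod.tensorPowAddIso L (m + 1) (n + 1)).inv =
    (TensorMod.tensorPowAddIso L (m + 1) (n + 1)).symm.hom from rfl]
  exact (genLocus_comp_iso _ _).trans (genLocus_tmulHom (TensorMod.isInvertible_tensorPow hL _)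
    (TensorMod.isInvertible_tensorPow hL _) a b)

end Groth.Agent.GenLocus
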