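import Groth.Agent.GenLocus.PullFrame
import Groth.Agent.TensorMod.FinLocFree

/-!
# Inverse images of sections, of tensor products and of powers of invertible modules
-/

set_option autoImplicit false
set_option backward.isDefEq.respectTransparency false
set_option backward.isDefEq.respectTransparency.types false

noncomputable section

universe u

open CategoryTheory Limits AlgebraicGeometry Opposite TopologicalSpace
open Groth.Agent.QCohBase
open scoped TensorProduct MonoidalCategory

namespace Groth.Agent.GenLocus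

variable {X Y : Scheme.{u}}

lemma app_smul' {M N : X.Modules} (φ : M ⟶ N) {V : X.Opens} (r : Γ(X, V)) (m : Γ(M, V)) :
    φ.app V (r • m) = r • φ.app V m :=
  Scheme.Modules.Hom.app_smul φ r m

/-- A morphism sending local frames to frames is an isomorphism. -/
theorem isIso_of_frames {M N : X.Modules} (φ : M ⟶ N)
    (h : ∀ x : X, ∃ (U : X.Opens) (_ : x ∈ U) (e : Γ(M, U)), IsFrame M e ∧ IsFrame N (φ.app U e)) :
    IsIso φ := by
  rw [Scheme.Modules.Hom.isIso_iff_isIso_app]
  intro V
  rw [ConcreteCategory.isIso_iff_bijective]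
  choose U hxU e he he' using h
  have hle : ∀ x : V, U x.1 ⊓ V ≤ V := fun x ↦ inf_le_right
  have hcov : V ≤ ⨆ x : V, U x.1 ⊓ V := fun x hx ↦ Opens.mem_iSup.mpr ⟨⟨x, hx⟩, hxU x, hx⟩
  have hloc : ∀ (x : X) (W : X.Opens) (hW : W ≤ U x), Function.Bijective (φ.app W) := fun x W hW ↦ by
    have hb := he x W hW
    have hb' := he' x W hW
    rw [← Function.Bijective.of_comp_iff (φ.app W) hb]
    convert hb' using 1
    exact funext fun r ↦ (app_smul' φ r _).trans (congrArg (r • ·) (app_mres φ hW (e x)).symm)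
  refine ⟨fun a b hab ↦ eq_of_iSup_le M _ hle hcov _ _ fun x ↦ ?_, fun σ ↦ ?_⟩
  · refine (hloc x.1 _ inf_le_left).1 ?_
    rw [← app_mres φ (hle x) a, ← app_mres φ (hle x) b]
    exact congrArg _ hab
  · choose τ hτ using fun x : V ↦ (hloc x.1 (U x.1 ⊓ V) inf_le_left).2 (mres N (hle x) σ)
    obtain ⟨t, ht, -⟩ := TopCat.Sheaf.existsUnique_gluing' ⟨M.presheaf, M.isSheaf⟩
      (fun x : V ↦ U x.1 ⊓ V) V (fun x ↦ homOfLE (hle x)) hcov τ (fun x y ↦ by
        show mres M inf_le_left (τ x) = mres M inf_le_right (τ y)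
        refine (hloc x.1 _ (inf_le_left.trans inf_le_left)).1 ?_
        rw [← app_mres, ← app_mres, hτ, hτ, mres_mres, mres_mres])
    refine ⟨t, eq_of_iSup_le N _ hle hcov _ _ fun x ↦ ?_⟩
    rw [app_mres, ← hτ x]
    exact congrArg _ (ht x)

variable (g : X ⟶ Y)

theorem isInvertible_pullback {L : Y.Modules} (hL : PicF.IsInvertible L) :
    PicF.IsInvertible ((Scheme.Modules.pullback g).obj L) :=
  TensorMod.isInvertible_iff_isFinLocFreeOfRank_one.mpr
    (TensorMod.isFinLocFreeOfRank_pullback g (TensorMod.isFinLocFreeOfRank_one hL))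

/-- The inverse image of a global section. -/
def pullHom {L : Y.Modules} (s : Coh.structureModule Y ⟶ L) :
    Coh.structureModule X ⟶ (Scheme.Modules.pullback g).obj L :=
  homOfSection _ (pullSec g L ⊤ (sect s ⊤))

lemma sect_pullHom {L : Y.Modules} (s : Coh.structureModule Y ⟶ L) (V : Y.Opens) :
    sect (pullHom g s) (g ⁻¹ᵁ V) = pullSec g L V (sect s V) := by
  rw [pullHom, sect_homOfSection]
  exact (pullSec_mres g L (le_top : V ≤ ⊤) _).trans (congrArg _ (mres_sect s _))

theorem genLocus_pullHom {L : Y.Modules} (hL : PicF.IsInvertible L) (s : Coh.structureModule Y ⟶ L) :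
    CohB1.genLocus _ (pullHom g s) = g ⁻¹ᵁ CohB1.genLocus L s := by
  refine Opens.ext (Set.ext fun x ↦ ?_)
  obtain ⟨U, -, hxU, -, e, he⟩ := exists_isFrame hL (W := ⊤) (x := g x) trivial
  obtain ⟨f, hf, hD⟩ := genLocus_inf_frame s he
  have h1 := genLocus_inf_eq_basicOpen (pullHom g s) (he.pullSec g) (f := g.app U f)
    (by rw [← pullSec_smul, hf, sect_pullHom])
  rw [← Scheme.preimage_basicOpen, ← hD] at h1
  have h2 := SetLike.ext_iff.mp h1 x
  exact ⟨fun h ↦ (h2.mp ⟨h, hxU⟩).1, fun h ↦ (h2.mpr ⟨h, hxU⟩).1⟩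

lemma tmul_smul_left (M N : X.Modules) {U : X.Opens} (f : Γ(X, U)) (a : Γ(M, U)) (b : Γ(N, U)) :
    SecTwist.tmul M N U (f • a) b = f • SecTwist.tmul M N U a b := by
  have := tmul_smul_smul M N f 1 a b
  rwa [one_smul, mul_one] at this

lemma tmul_smul_right (M N : X.Modules) {U : X.Opens} (f : Γ(X, U)) (a : Γ(M, U)) (b : Γ(N, U)) :
    SecTwist.tmul M N U a (f • b) = f • SecTwist.tmul M N U a b := by
  have := tmul_smul_smul M N 1 f a b
  rwa [one_smul, one_mul] at this

/-- `tmul` as a biadditive map. -/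
def tmulBi (M N : X.Modules) (U : X.Opens) : Γ(M, U) →+ Γ(N, U) →+ Γ(CohB1.tensorMod M N, U) where
  toFun a :=
    { toFun := fun b ↦ SecTwist.tmul M N U a b
      map_zero' := (congrArg (toT M N U) (TensorProduct.tmul_zero (R := Γ(X, U)) _ a)).trans (map_zero _)
      map_add' := fun b b' ↦ (congrArg (toT M N U) (TensorProduct.tmul_add (R := Γ(X, U)) a b b')).trans (map_add _ _ _) }
  map_zero' := AddMonoidHom.ext fun b ↦ (congrArg (toT M N U) (TensorProduct.zero_tmul (R := Γ(X, U)) _ b)).trans (map_zero _)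
  map_add' a a' := AddMonoidHom.ext fun b ↦
    (congrArg (toT M N U) (TensorProduct.add_tmul (R := Γ(X, U)) a a' b)).trans (map_add _ _ _)

/-- The inverse image of a product of sections, on sections. -/
def pullTmul (L M : Y.Modules) (V : Y.Opens) : Γ(L, V) ⊗[Γ(Y, V)] Γ(M, V) →+
    Γ(CohB1.tensorMod ((Scheme.Modules.pullback g).obj L) ((Scheme.Modules.pullback g).obj M), g ⁻¹ᵁ V) :=
  TensorProduct.liftAddHom
    { toFun := fun a ↦ (tmulBi _ _ _ (pullSec g L V a)).comp (pullSec g M V)
      map_zero' := by rw [map_zero, map_zero, AddMonoidHom.zero_comp]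
      map_add' := fun a a' ↦ by rw [map_add, map_add, AddMonoidHom.add_comp] }
    (fun r a b ↦ by
      show SecTwist.tmul _ _ _ (pullSec g L V (r • a)) (pullSec g M V b) =
        SecTwist.tmul _ _ _ (pullSec g L V a) (pullSec g M V (r • b))
      rw [pullSec_smul, pullSec_smul, tmul_smul_left, tmul_smul_right])

lemma pullTmul_tmul (L M : Y.Modules) (V : Y.Opens) (a : Γ(L, V)) (b : Γ(M, V)) :
    pullTmul g L M V (a ⊗ₜ b) = SecTwist.tmul _ _ (g ⁻¹ᵁ V) (pullSec g L V a) (pullSec g M V b) := rfl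

lemma pullTmul_smul (L M : Y.Modules) (V : Y.Opens) (r : Γ(Y, V)) (x : Γ(L, V) ⊗[Γ(Y, V)] Γ(M, V)) :
    pullTmul g L M V (r • x) = g.app V r • pullTmul g L M V x := by
  induction x using TensorProduct.induction_on with
  | zero => simp
  | add x y hx hy => rw [smul_add, map_add, map_add, hx, hy, smul_add]
  | tmul a b => rw [TensorProduct.smul_tmul', pullTmul_tmul, pullTmul_tmul, pullSec_smul, tmul_smul_left]

lemma pullTmul_res (L M : Y.Modules) {V W : Y.Opens} (h : W ≤ V) (a : Γ(L, V)) (b : Γ(M, V)) :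
    mres _ (g.preimage_mono h) (pullTmul g L M V (a ⊗ₜ b)) =
      pullTmul g L M W (mres L h a ⊗ₜ mres M h b) := by
  rw [pullTmul_tmul, pullTmul_tmul, ← pullSec_mres, ← pullSec_mres]
  exact SecTwist.map_tmul _ _ (homOfLE (g.preimage_mono h)) _ _

/-- The inverse image of a product of sections, in presheaves. -/
def pullTensorPre (L M : Y.Modules) :
    CohB1.tensorPre L M ⟶ (TensorMod.incl Y).obj ((Scheme.Modules.pushforward g).obj
      (CohB1.tensorMod ((Scheme.Modules.pullback g).obj L) ((Scheme.Modules.pullback g).obj M))) :=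
  PresheafOfModules.homMk
    { app := fun V ↦ AddCommGrpCat.ofHom (pullTmul g L M V.unop)
      naturality := fun V W i ↦ by
        ext x
        induction x using TensorProduct.induction_on with
        | zero => exact (map_zero _).trans (map_zero _).symm
        | add x y hx hy =>
          exact (map_add _ _ _).trans ((congrArg₂ (· + ·) hx hy).trans (map_add _ _ _).symm)
        | tmul a b => exact (pullTmul_res g L M i.unop.le a b).symm }
    (fun V r x ↦ pullTmul_smul g L M V.unop r x)

/-- The comparison map of inverse images of tensor products. -/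
def pullTensorMap (L M : Y.Modules) :
    (Scheme.Modules.pullback g).obj (CohB1.tensorMod L M) ⟶
      CohB1.tensorMod ((Scheme.Modules.pullback g).obj L) ((Scheme.Modules.pullback g).obj M) :=
  ((Scheme.Modules.pullbackPushforwardAdjunction g).homEquiv _ _).symm
    (((TensorMod.shAdj Y).homEquiv _ _).symm (pullTensorPre g L M))

lemma pullTensorMap_tmul (L M : Y.Modules) (V : Y.Opens) (a : Γ(L, V)) (b : Γ(M, V)) :
    (pullTensorMap g L M).app _ (pullSec g _ V (SecTwist.tmul L M V a b)) =
      SecTwist.tmul _ _ (g ⁻¹ᵁ V) (pullSec g L V a) (pullSec g M V b) := by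
  have h1 := Adjunction.homEquiv_unit (Scheme.Modules.pullbackPushforwardAdjunction g) _ _ (pullTensorMap g L M)
  rw [pullTensorMap, Equiv.apply_symm_apply] at h1
  have h2 := Adjunction.homEquiv_unit (TensorMod.shAdj Y) _ _
    (((TensorMod.shAdj Y).homEquiv _ _).symm (pullTensorPre g L M))
  rw [Equiv.apply_symm_apply] at h2
  have e1 := congr($(congrArg (fun ψ ↦ Scheme.Modules.Hom.app ψ V) h1) (SecTwist.tmul L M V a b))
  have e2 := congr(($h2).app (op V) (a ⊗ₜ[Γ(Y, V)] b))
  exact e1.symm.trans e2.symm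

/-- Inverse image commutes with tensor products of invertible modules. -/
def pullTensorIso {L M : Y.Modules} (hL : PicF.IsInvertible L) (hM : PicF.IsInvertible M) :
    (Scheme.Modules.pullback g).obj (CohB1.tensorMod L M) ≅
      CohB1.tensorMod ((Scheme.Modules.pullback g).obj L) ((Scheme.Modules.pullback g).obj M) :=
  @asIso _ _ _ _ (pullTensorMap g L M) (isIso_of_frames _ fun x ↦ by
    obtain ⟨V, -, hxV, -, e, he⟩ := exists_isFrame hL (W := ⊤) (x := g x) trivial
    obtain ⟨U, -, hxU, hUV, e', he'⟩ := exists_isFrame hM hxV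
    refine ⟨g ⁻¹ᵁ U, hxU, pullSec g _ U (SecTwist.tmul L M U (mres L hUV e) e'),
      ((he.res hUV).tmul he').pullSec g, ?_⟩
    rw [pullTensorMap_tmul]
    exact ((he.res hUV).pullSec g).tmul (he'.pullSec g))

/-- The inverse image of the structure sheaf. -/
def pullUnitMap : (Scheme.Modules.pullback g).obj (Coh.structureModule Y) ⟶ Coh.structureModule X :=
  ((Scheme.Modules.pullbackPushforwardAdjunction g).homEquiv _ _).symm
    (homOfSection _ (sect (𝟙 (Coh.structureModule X)) (g ⁻¹ᵁ ⊤)))

def pullUnitIso : (Scheme.Modules.pullback g).obj (Coh.structureModule Y) ≅ Coh.structureModule X :=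
  @asIso _ _ _ _ (pullUnitMap g) (isIso_of_frames _ fun x ↦ by
    have hY : IsFrame _ (sect (𝟙 (Coh.structureModule Y)) ⊤) := (isIso_restrict_iff _ _).mp
      (by rw [CategoryTheory.Functor.map_id]; infer_instance)
    have hX : IsFrame _ (sect (𝟙 (Coh.structureModule X)) (g ⁻¹ᵁ ⊤)) := (isIso_restrict_iff _ _).mp
      (by rw [CategoryTheory.Functor.map_id]; infer_instance)
    refine ⟨g ⁻¹ᵁ ⊤, trivial, pullSec g _ ⊤ (sect (𝟙 _) ⊤), hY.pullSec g, ?_⟩
    have h1 := Adjunction.homEquiv_unit (Scheme.Modules.pullbackPushforwardAdjunction g) _ _ (pullUnitMap g)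
    rw [pullUnitMap, Equiv.apply_symm_apply] at h1
    have e1 := congr($(congrArg (fun ψ ↦ Scheme.Modules.Hom.app ψ ⊤) h1) (sect (𝟙 (Coh.structureModule Y)) ⊤))
    have e2 : (pullUnitMap g).app _ (pullSec g _ ⊤ (sect (𝟙 _) ⊤)) =
        sect (𝟙 (Coh.structureModule X)) (g ⁻¹ᵁ ⊤) :=
      e1.symm.trans ((sect_homOfSection _ _ ⊤).trans (mres_refl _ _ _))
    rwa [e2])

/-- Inverse image commutes with powers of invertible modules. -/
def pullPowIso {L : Y.Modules} (hL : PicF.IsInvertible L) : ∀ n : ℕ,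
    (Scheme.Modules.pullback g).obj (CohB1.tensorPow L n) ≅
      CohB1.tensorPow ((Scheme.Modules.pullback g).obj L) n
  | 0 => pullUnitIso g
  | n + 1 => pullTensorIso g (TensorMod.isInvertible_tensorPow hL n) hL ≪≫
      TensorMod.tensorIso (pullPowIso hL n) (Iso.refl _)

/-- Sections of powers on an inverse image with locus the inverse image. -/
theorem exists_genLocus_pullback {L : Y.Modules} (hL : PicF.IsInvertible L) {n : ℕ}
    (s : Coh.structureModule Y ⟶ CohB1.tensorPow L n) :
    ∃ c : Coh.structureModule X ⟶ CohB1.tensorPow ((Scheme.Modules.pullback g).obj L) n,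
      CohB1.genLocus _ c = g ⁻¹ᵁ CohB1.genLocus _ s :=
  ⟨pullHom g s ≫ (pullPowIso g hL n).hom,
    (genLocus_comp_iso _ _).trans (genLocus_pullHom g (TensorMod.isInvertible_tensorPow hL n) s)⟩

end Groth.Agent.GenLocus
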