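import Groth.Agent.GenLocus.Extend

/-!
# Inverse images of frames
-/

set_option autoImplicit false
set_option backward.isDefEq.respectTransparency false
set_option backward.isDefEq.respectTransparency.types false

noncomputable section

universe u

open CategoryTheory Limits AlgebraicGeometry Opposite TopologicalSpace
open Groth.Agent.QCohBase

namespace Groth.Agent.GenLocus

variable {X Y : Scheme.{u}}

/-- A morphism of modules from compatible linear maps. -/
def modHomMk {M N : X.Modules} (φ : ∀ V : X.Opens, Γ(M, V) →+ Γ(N, V))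
    (hres : ∀ (V W : X.Opens) (h : W ≤ V) (m : Γ(M, V)), mres N h (φ V m) = φ W (mres M h m))
    (hlin : ∀ (V : X.Opens) (r : Γ(X, V)) (m : Γ(M, V)), φ V (r • m) = r • φ V m) : M ⟶ N :=
  ⟨PresheafOfModules.homMk
    { app := fun V ↦ AddCommGrpCat.ofHom (φ V.unop)
      naturality := fun V W i ↦ by
        ext m
        exact (hres V.unop W.unop i.unop.le m).symm }
    (fun V r m ↦ hlin V.unop r m)⟩

lemma modHomMk_app {M N : X.Modules} (φ : ∀ V : X.Opens, Γ(M, V) →+ Γ(N, V))
    (hres : ∀ (V W : X.Opens) (h : W ≤ V) (m : Γ(M, V)), mres N h (φ V m) = φ W (mres M h m))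
    (hlin : ∀ (V : X.Opens) (r : Γ(X, V)) (m : Γ(M, V)), φ V (r • m) = r • φ V m)
    (V : X.Opens) (m : Γ(M, V)) : (modHomMk φ hres hlin).app V m = φ V m := rfl

lemma app_mres {M N : X.Modules} (φ : M ⟶ N) {V W : X.Opens} (h : W ≤ V) (m : Γ(M, V)) :
    mres N h (φ.app V m) = φ.app W (mres M h m) :=
  (PresheafOfModules.naturality_apply φ.val (homOfLE h).op m).symm

/-- The inverse image of a local section. -/
def pullSec (g : X ⟶ Y) (M : Y.Modules) (V : Y.Opens) :
    Γ(M, V) →+ Γ((Scheme.Modules.pullback g).obj M, g ⁻¹ᵁ V) :=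
  (((Scheme.Modules.pullbackPushforwardAdjunction g).unit.app M).app V).hom

lemma pullSec_smul (g : X ⟶ Y) (M : Y.Modules) {V : Y.Opens} (r : Γ(Y, V)) (m : Γ(M, V)) :
    pullSec g M V (r • m) = g.app V r • pullSec g M V m :=
  Scheme.Modules.Hom.app_smul ((Scheme.Modules.pullbackPushforwardAdjunction g).unit.app M) r m

lemma pullSec_mres (g : X ⟶ Y) (M : Y.Modules) {V W : Y.Opens} (h : W ≤ V) (m : Γ(M, V)) :
    mres _ (g.preimage_mono h) (pullSec g M V m) = pullSec g M W (mres M h m) :=
  app_mres ((Scheme.Modules.pullbackPushforwardAdjunction g).unit.app M) h m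

lemma pullSec_naturality (g : X ⟶ Y) {M N : Y.Modules} (φ : M ⟶ N) {V : Y.Opens} (m : Γ(M, V)) :
    ((Scheme.Modules.pullback g).map φ).app (g ⁻¹ᵁ V) (pullSec g M V m) =
      pullSec g N V (φ.app V m) := by
  have h := (Scheme.Modules.pullbackPushforwardAdjunction g).unit.naturality φ
  exact (congr($(congrArg (fun ψ ↦ Scheme.Modules.Hom.app ψ V) h) m)).symm

/-- Morphisms out of an inverse image are determined on inverse images of sections. -/
lemma pull_hom_ext (g : X ⟶ Y) {M : Y.Modules} {N : X.Modules}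
    {a b : (Scheme.Modules.pullback g).obj M ⟶ N}
    (h : ∀ (V : Y.Opens) (m : Γ(M, V)), a.app _ (pullSec g M V m) = b.app _ (pullSec g M V m)) :
    a = b := by
  apply ((Scheme.Modules.pullbackPushforwardAdjunction g).homEquiv _ _).injective
  rw [Adjunction.homEquiv_unit, Adjunction.homEquiv_unit]
  ext V m
  exact h V m

variable (g : X ⟶ Y) {L : Y.Modules} {U : Y.Opens} {e : Γ(L, U)}

lemma exists_coef (he : IsFrame L e) (V : Y.Opens) (m : Γ(L, V)) :
    ∃ c : Γ(Y, U ⊓ V), c • mres L inf_le_left e = mres L inf_le_right m :=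
  (he _ inf_le_left).2 _

/-- The coefficient of a section in a frame. -/
def coef (he : IsFrame L e) (V : Y.Opens) (m : Γ(L, V)) : Γ(Y, U ⊓ V) :=
  (exists_coef he V m).choose

lemma coef_spec (he : IsFrame L e) (V : Y.Opens) (m : Γ(L, V)) :
    coef he V m • mres L inf_le_left e = mres L inf_le_right m :=
  (exists_coef he V m).choose_spec

lemma coef_eq (he : IsFrame L e) (V : Y.Opens) (m : Γ(L, V)) (c : Γ(Y, U ⊓ V))
    (hc : c • mres L inf_le_left e = mres L inf_le_right m) : coef he V m = c :=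
  (he _ inf_le_left).1 ((coef_spec he V m).trans hc.symm)

lemma image_preimage_le_inf (V : Y.Opens) :
    (g ⁻¹ᵁ U).ι ''ᵁ ((g ⁻¹ᵁ U).ι ⁻¹ᵁ (g ⁻¹ᵁ V)) ≤ g ⁻¹ᵁ (U ⊓ V) := by
  rw [Scheme.Hom.image_preimage_eq_opensRange_inf, Scheme.Opens.opensRange_ι]
  exact le_of_eq rfl

/-- The coefficient map of an inverse image. -/
def coefPull (he : IsFrame L e) :
    (Scheme.Modules.pullback g).obj L ⟶
      (Scheme.Modules.pushforward (g ⁻¹ᵁ U).ι).obj (Coh.structureModule _) :=
  ((Scheme.Modules.pullbackPushforwardAdjunction g).homEquiv _ _).symm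
    (modHomMk
      (fun V ↦
        { toFun := fun m ↦ g.appLE (U ⊓ V) _ (image_preimage_le_inf g V) (coef he V m)
          map_zero' := by
            rw [coef_eq he V 0 0 (by simp)]; exact map_zero _
          map_add' := fun m m' ↦ by
            rw [coef_eq he V (m + m') (coef he V m + coef he V m')
              (by rw [add_smul, coef_spec, coef_spec, map_add])]
            exact map_add _ _ _ })
      (fun V W h m ↦ by
        have hc : coef he W (mres L h m) = ores (inf_le_inf_left U h) (coef he V m) := by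
          refine coef_eq he W _ _ ?_
          have := congrArg (mres L (inf_le_inf_left U h)) (coef_spec he V m)
          rw [mres_smul, mres_mres, mres_mres] at this
          rw [mres_mres]
          exact this
        show X.presheaf.map _ (g.appLE (U ⊓ V) _ (image_preimage_le_inf g V) (coef he V m)) =
          g.appLE (U ⊓ W) _ (image_preimage_le_inf g W) (coef he W (mres L h m))
        rw [hc, ores, ← CommRingCat.comp_apply, ← CommRingCat.comp_apply, Scheme.Hom.appLE_map,
          Scheme.Hom.map_appLE]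
        rfl)
      (fun V r m ↦ by
        have hc : coef he V (r • m) = ores inf_le_right r * coef he V m :=
          coef_eq he V _ _ (by rw [mul_smul, coef_spec, mres_smul])
        show g.appLE (U ⊓ V) _ (image_preimage_le_inf g V) (coef he V (r • m)) =
          (show Γ(X, (g ⁻¹ᵁ U).ι ''ᵁ ((g ⁻¹ᵁ U).ι ⁻¹ᵁ (g ⁻¹ᵁ V))) from
            (g ⁻¹ᵁ U).ι.app (g ⁻¹ᵁ V) (g.app V r)) *
            g.appLE (U ⊓ V) _ (image_preimage_le_inf g V) (coef he V m)
        rw [hc, map_mul]
        congr 1
        rw [ores, ← CommRingCat.comp_apply, Scheme.Hom.map_appLE, Scheme.Opens.ι_app,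
          ← CommRingCat.comp_apply, Scheme.Hom.app_eq_appLE, Scheme.Hom.appLE_map]
        rfl))

lemma coefPull_pullSec (he : IsFrame L e) (V : Y.Opens) (m : Γ(L, V)) :
    (coefPull g he).app _ (pullSec g L V m) =
      g.appLE (U ⊓ V) _ (image_preimage_le_inf g V) (coef he V m) := by
  have h := Adjunction.homEquiv_unit (Scheme.Modules.pullbackPushforwardAdjunction g) L _ (coefPull g he)
  rw [coefPull, Equiv.apply_symm_apply] at h
  exact (congr($(congrArg (fun ψ ↦ Scheme.Modules.Hom.app ψ V) h) m)).symm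

/-- The morphism out of the direct image of the structure sheaf of an open given by a section. -/
def secHom (P : X.Modules) {U₀ : X.Opens} (η : Γ(P, U₀)) :
    (Scheme.Modules.pushforward U₀.ι).obj (Coh.structureModule _) ⟶
      (Scheme.Modules.pushforward U₀.ι).obj ((Scheme.Modules.restrictFunctor U₀.ι).obj P) :=
  (Scheme.Modules.pushforward U₀.ι).map (homOfSection (P.restrict U₀.ι)
    ((P.restrictAppIso U₀.ι ⊤).inv (mres P U₀.ι_image_top.le η)))

lemma secHom_app (P : X.Modules) {U₀ : X.Opens} (η : Γ(P, U₀)) (V : X.Opens)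
    (h : U₀.ι ''ᵁ (U₀.ι ⁻¹ᵁ V) ≤ U₀) (c : Γ(U₀.toScheme, U₀.ι ⁻¹ᵁ V)) :
    (P.restrictAppIso U₀.ι (U₀.ι ⁻¹ᵁ V)).hom ((secHom P η).app V c) =
      (U₀.ι.appIso (U₀.ι ⁻¹ᵁ V)).inv c • mres P h η := by
  have e : (secHom P η).app V c = c • mres (P.restrict U₀.ι) (le_top : U₀.ι ⁻¹ᵁ V ≤ ⊤)
      ((P.restrictAppIso U₀.ι ⊤).inv (mres P U₀.ι_image_top.le η)) :=
    (app_eq_smul (homOfSection (P.restrict U₀.ι) _) (U₀.ι ⁻¹ᵁ V) c).trans
      (congrArg (c • ·) (sect_homOfSection _ _ _))
  rw [e, Scheme.Modules.smul_restrictAppIso_hom_apply]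
  congr 1
  refine Eq.trans (b := mres P (U₀.ι.image_mono (le_top : U₀.ι ⁻¹ᵁ V ≤ ⊤)) (mres P U₀.ι_image_top.le η)) rfl ?_
  rw [mres_mres]

/-- The inverse image of a frame is a frame. -/
theorem IsFrame.pullSec (he : IsFrame L e) :
    IsFrame ((Scheme.Modules.pullback g).obj L) (GenLocus.pullSec g L U e) := by
  let P := (Scheme.Modules.pullback g).obj L
  let j := (g ⁻¹ᵁ U).ι
  let η : Γ(P, g ⁻¹ᵁ U) := GenLocus.pullSec g L U e
  have hj : ∀ W : X.Opens, j ''ᵁ (j ⁻¹ᵁ W) ≤ g ⁻¹ᵁ U := fun W ↦ by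
    rw [Scheme.Hom.image_preimage_eq_opensRange_inf, Scheme.Opens.opensRange_ι]; exact inf_le_left
  have hone : ∀ (W : X.Opens) (hW : W ≤ g ⁻¹ᵁ U),
      (coefPull g he).app W (QCohBase.mres P hW η) = (1 : Γ((g ⁻¹ᵁ U).toScheme, j ⁻¹ᵁ W)) := by
    intro W hW
    rw [← app_mres, coefPull_pullSec]
    have : coef he U e = 1 := coef_eq he U e 1 (by rw [one_smul])
    rw [this]
    show X.presheaf.map _ (g.appLE _ _ _ 1) = _
    rw [map_one, map_one]
  intro W hW
  have hW' : W ≤ j ''ᵁ (j ⁻¹ᵁ W) := fun x hx ↦ ⟨⟨x, hW hx⟩, hx, rfl⟩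
  refine ⟨fun r r' hrr ↦ ?_, fun σ ↦ ?_⟩
  · have h1 := congrArg ((coefPull g he).app W) hrr
    simp only [Scheme.Modules.Hom.app_smul] at h1
    rw [hone W hW] at h1
    have h2 : j.app W r * 1 = j.app W r' * 1 := h1
    rw [mul_one, mul_one, Scheme.Opens.ι_app] at h2
    have := congrArg (ores hW') h2
    have hid : ∀ x : Γ(X, W), ores hW' (ores (j.image_preimage_le W) x) = x :=
      fun x ↦ (ores_ores _ _ x).trans (by simp [ores])
    exact (hid r).symm.trans (this.trans (hid r'))
  · let Q := (Scheme.Modules.pushforward j).obj ((Scheme.Modules.restrictFunctor j).obj P)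
    let b : (Scheme.Modules.pushforward j).obj (Coh.structureModule _) ⟶ Q := secHom P η
    have hb : ∀ (V : X.Opens) (c : Γ((g ⁻¹ᵁ U).toScheme, j ⁻¹ᵁ V)),
        (P.restrictAppIso j (j ⁻¹ᵁ V)).hom (b.app V c) =
          (show Γ(X, j ''ᵁ (j ⁻¹ᵁ V)) from c) • QCohBase.mres P (hj V) η := fun V c ↦ by
      rw [secHom_app P η V (hj V) c, Scheme.Opens.ι_appIso]
      rfl
    have key : coefPull g he ≫ b = (Scheme.Modules.restrictAdjunction j).unit.app P := by
      refine pull_hom_ext g fun V m ↦ ?_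
      show b.app _ ((coefPull g he).app _ (GenLocus.pullSec g L V m)) = _
      rw [coefPull_pullSec]
      refine (hb _ _).trans ?_
      show (g.appLE (U ⊓ V) _ _ (coef he V m) : Γ(X, _)) • QCohBase.mres P _ η =
        QCohBase.mres P (j.image_preimage_le _) (GenLocus.pullSec g L V m)
      have h2 := congrArg (QCohBase.mres P (image_preimage_le_inf g V))
        (congrArg (GenLocus.pullSec g L (U ⊓ V)) (coef_spec he V m))
      rw [pullSec_smul, mres_smul, ← pullSec_mres g L inf_le_left, ← pullSec_mres g L inf_le_right,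
        mres_mres, mres_mres] at h2
      refine Eq.trans ?_ h2
      congr 1
    refine ⟨ores hW' ((coefPull g he).app W σ), ?_⟩
    have h3 := congrArg (QCohBase.mres P hW')
      (congr($(congrArg (fun ψ ↦ Scheme.Modules.Hom.app ψ W) key) σ))
    simp only [Scheme.Modules.Hom.comp_app] at h3
    change QCohBase.mres P hW' (b.app W ((coefPull g he).app W σ)) = _ at h3
    erw [hb] at h3
    change QCohBase.mres P hW' ((show Γ(X, j ''ᵁ (j ⁻¹ᵁ W)) from (coefPull g he).app W σ) • QCohBase.mres P (hj W) η) =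
      QCohBase.mres P hW' (QCohBase.mres P (j.image_preimage_le W) σ) at h3
    rw [mres_smul, mres_mres, mres_mres, mres_refl] at h3
    exact h3

end Groth.Agent.GenLocus
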