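import Groth.Agent.GenLocus.Sep
import Mathlib.AlgebraicGeometry.QuasiAffine

/-!
# Ample invertible modules: bases of loci of generation, affine neighbourhoods of finite sets
-/

set_option autoImplicit false
set_option backward.isDefEq.respectTransparency false
set_option backward.isDefEq.respectTransparency.types false

noncomputable section

universe u

open CategoryTheory Limits AlgebraicGeometry Opposite TopologicalSpace
open Groth.Agent.QCohBase

namespace Groth.Agent.GenLocus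

variable {X : Scheme.{u}} {L : X.Modules}

/-- A section of a divisible power with the same locus. -/
lemma exists_same_genLocus (hL : PicF.IsInvertible L) {n N : ℕ} (hN : 0 < N) (hd : n + 1 ∣ N)
    (s : Coh.structureModule X ⟶ CohB1.tensorPow L (n + 1)) :
    ∃ c : Coh.structureModule X ⟶ CohB1.tensorPow L N, CohB1.genLocus _ c = CohB1.genLocus _ s := by
  obtain ⟨d, rfl⟩ := hd
  obtain ⟨d, rfl⟩ := Nat.exists_eq_succ_of_ne_zero (n := d) (by rintro rfl; simp at hN)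
  exact ⟨SecTwist.powHom s (d + 1) ≫ (TensorMod.tensorPowMulIso L (n + 1) (d + 1)).hom,
    (genLocus_comp_iso _ _).trans (genLocus_powHom (TensorMod.isInvertible_tensorPow hL _) s d)⟩

theorem isSeparated_of_cover_genLocus (hL : PicF.IsInvertible L)
    (h : ∀ x : X, ∃ (n : ℕ) (s : Coh.structureModule X ⟶ CohB1.tensorPow L (n + 1)),
      x ∈ CohB1.genLocus _ s ∧ IsAffineOpen (CohB1.genLocus _ s)) : X.IsSeparated := by
  choose n s hxs hs using h
  refine isSeparated_of_cover (fun x ↦ CohB1.genLocus _ (s x))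
    (eq_top_iff.mpr fun x _ ↦ Opens.mem_iSup.mpr ⟨x, hxs x⟩) hs fun i j ↦ ?_
  obtain ⟨a, ha⟩ := exists_same_genLocus hL (Nat.mul_pos (n i).succ_pos (n j).succ_pos)
    (Dvd.intro _ rfl) (s i)
  obtain ⟨b, hb⟩ := exists_same_genLocus hL (Nat.mul_pos (n i).succ_pos (n j).succ_pos)
    (Dvd.intro_left _ rfl) (s j)
  have hfa := isFrame_sect_genLocus a
  have hfb := isFrame_sect_genLocus b
  obtain ⟨φ, hφ, hD⟩ := genLocus_inf_frame a hfb
  obtain ⟨ψ, hψ, -⟩ := genLocus_inf_frame b hfa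
  generalize CohB1.genLocus _ (s i) = A at ha
  generalize CohB1.genLocus _ (s j) = B at hb
  subst ha hb
  refine ⟨φ, ψ, hD, ?_⟩
  refine (hfa.res (inf_le_left : CohB1.genLocus _ a ⊓ CohB1.genLocus _ b ≤ _)).bijective.1 ?_
  have e1 := congrArg (mres _ (inf_le_right : CohB1.genLocus _ a ⊓ CohB1.genLocus _ b ≤ _)) hφ
  have e2 := congrArg (mres _ (inf_le_left : CohB1.genLocus _ a ⊓ CohB1.genLocus _ b ≤ _)) hψ
  simp only [mres_smul, mres_sect] at e1 e2 ⊢
  rw [one_smul, mul_smul, e2, e1]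

theorem isSeparated_of_isAmple (h : CohB1.IsAmple L) : X.IsSeparated :=
  isSeparated_of_cover_genLocus h.1 h.2.2

/-- Loci of generation of sections of positive powers of an ample module form a basis. -/
theorem exists_affine_genLocus_le (h : CohB1.IsAmple L) {x : X} {W : X.Opens} (hx : x ∈ W) :
    ∃ (n : ℕ) (c : Coh.structureModule X ⟶ CohB1.tensorPow L (n + 1)),
      x ∈ CohB1.genLocus _ c ∧ CohB1.genLocus _ c ≤ W ∧ IsAffineOpen (CohB1.genLocus _ c) := by
  haveI := isSeparated_of_isAmple h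
  haveI := h.2.1
  obtain ⟨n, s, hxs, hs⟩ := h.2.2 x
  obtain ⟨f, hfW, hxf⟩ := hs.exists_basicOpen_le ⟨x, hx⟩ hxs
  obtain ⟨m, c, hc⟩ := exists_genLocus_eq_basicOpen h.1 s f
  exact ⟨m, c, hc ▸ hxf, hc ▸ hfW, hc ▸ hs.basicOpen f⟩

theorem isBasis_of_isAmple (h : CohB1.IsAmple L) :
    Opens.IsBasis {U : X.Opens | IsAffineOpen U ∧
      ∃ (n : ℕ) (s : Coh.structureModule X ⟶ CohB1.tensorPow L (n + 1)), U = CohB1.genLocus _ s} := by
  refine Opens.isBasis_iff_nbhd.mpr fun {W x} hx ↦ ?_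
  obtain ⟨n, c, hxc, hcW, hc⟩ := exists_affine_genLocus_le h hx
  exact ⟨_, ⟨hc, n, c, rfl⟩, hxc, hcW⟩

theorem isBasis_affine_of_isBasis (hL : PicF.IsInvertible L)
    (hB : Opens.IsBasis {U : X.Opens | ∃ (n : ℕ) (s : Coh.structureModule X ⟶ CohB1.tensorPow L (n + 1)),
      U = CohB1.genLocus _ s}) :
    Opens.IsBasis {U : X.Opens | IsAffineOpen U ∧
      ∃ (n : ℕ) (s : Coh.structureModule X ⟶ CohB1.tensorPow L (n + 1)), U = CohB1.genLocus _ s} := by
  refine Opens.isBasis_iff_nbhd.mpr fun {W x} hx ↦ ?_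
  obtain ⟨V, hV, hxV, hVW⟩ := Opens.isBasis_iff_nbhd.1 X.isBasis_affineOpens hx
  obtain ⟨_, ⟨n, s, rfl⟩, hxs, hsV⟩ := Opens.isBasis_iff_nbhd.1 hB hxV
  refine ⟨_, ⟨?_, n, s, rfl⟩, hxs, hsV.trans hVW⟩
  rw [← inf_eq_left.mpr hsV]
  exact isAffineOpen_genLocus_inf (TensorMod.isInvertible_tensorPow hL _) s hV

theorem isAmple_iff_isBasis [CompactSpace X] (hL : PicF.IsInvertible L) :
    CohB1.IsAmple L ↔ Opens.IsBasis {U : X.Opens | ∃ (n : ℕ) (s : Coh.structureModule X ⟶ CohB1.tensorPow L (n + 1)),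
      U = CohB1.genLocus _ s} := by
  refine ⟨fun h ↦ Opens.isBasis_iff_nbhd.mpr fun {W x} hx ↦ ?_, fun h ↦ ⟨hL, inferInstance, fun x ↦ ?_⟩⟩
  · obtain ⟨n, c, hxc, hcW, -⟩ := exists_affine_genLocus_le h hx
    exact ⟨_, ⟨n, c, rfl⟩, hxc, hcW⟩
  · obtain ⟨_, ⟨hU, n, s, rfl⟩, hxs, -⟩ :=
      Opens.isBasis_iff_nbhd.1 (isBasis_affine_of_isBasis hL h) (show x ∈ (⊤ : X.Opens) from trivial)
    exact ⟨n, s, hxs, hU⟩

lemma sect_sum {ι : Type*} (t : Finset ι) (c : ι → (Coh.structureModule X ⟶ L)) (U : X.Opens) :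
    sect (∑ i ∈ t, c i) U = ∑ i ∈ t, sect (c i) U := by
  classical
  induction t using Finset.induction with
  | empty => simp only [Finset.sum_empty]; rfl
  | insert i t hi ih => rw [Finset.sum_insert hi, Finset.sum_insert hi, ← ih]; rfl

lemma mem_genLocus_iff_isUnit_germ {U : X.Opens} {e : Γ(L, U)} (he : IsFrame L e)
    (s : Coh.structureModule X ⟶ L) {f : Γ(X, U)} (hf : f • e = sect s U) {x : X} (hx : x ∈ U) :
    x ∈ CohB1.genLocus L s ↔ IsUnit (X.presheaf.germ U x hx f) := by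
  have h1 := SetLike.ext_iff.mp (genLocus_inf_eq_basicOpen s he hf) x
  rw [← Scheme.mem_basicOpen X f x hx]
  exact ⟨fun h ↦ h1.mp ⟨h, hx⟩, fun h ↦ (h1.mpr h).1⟩

/-- The sum of sections with affine loci: its locus, if nonempty at the given points, is affine. -/
theorem exists_affine_genLocus_of_family (hL : PicF.IsInvertible L) {ι : Type u} [Fintype ι]
    (c : ι → (Coh.structureModule X ⟶ L)) (hc : ∀ i, IsAffineOpen (CohB1.genLocus L (c i)))
    (z : ι → X) (hz : ∀ i, z i ∈ CohB1.genLocus L (c i))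
    (hz' : ∀ i j, j ≠ i → z i ∉ CohB1.genLocus L (c j)) :
    ∃ s : Coh.structureModule X ⟶ L, IsAffineOpen (CohB1.genLocus L s) ∧
      (∀ i, z i ∈ CohB1.genLocus L s) ∧ CohB1.genLocus L s ≤ ⨆ i, CohB1.genLocus L (c i) := by
  classical
  refine ⟨∑ i, c i, ?_, fun i ↦ ?_, fun x hx ↦ ?_⟩
  · obtain ⟨S, hS⟩ : ∃ S, S = CohB1.genLocus L (∑ i, c i) := ⟨_, rfl⟩
    have he := isFrame_sect_genLocus (∑ i, c i)
    choose f hf hfD using fun i ↦ genLocus_inf_frame (c i) he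
    refine isAffineOpen_of_isAffineOpen_basicOpen _ (Set.range f) ?_ ?_
    · refine (Ideal.eq_top_iff_one _).mpr ?_
      have : ∑ i, f i = 1 := he.bijective.1 (by
        show (∑ i, f i) • _ = (1 : Γ(X, _)) • _
        rw [Finset.sum_smul, one_smul, Finset.sum_congr rfl fun i _ ↦ hf i, ← sect_sum])
      rw [← this]
      exact Ideal.sum_mem _ fun i _ ↦ Ideal.subset_span ⟨i, rfl⟩
    · rintro _ ⟨i, rfl⟩
      rw [← hfD i, inf_comm]
      exact isAffineOpen_genLocus_inf hL _ (hc i)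
  · obtain ⟨U, -, hxU, -, e, he⟩ := exists_isFrame hL (W := ⊤) (x := z i) trivial
    choose g hg using fun j ↦ he.bijective.2 (sect (c j) U)
    rw [mem_genLocus_iff_isUnit_germ he _ (f := ∑ j, g j)
      (by simp only [Finset.sum_smul, sect_sum]; exact Finset.sum_congr rfl fun j _ ↦ hg j) hxU,
      map_sum, ← Finset.add_sum_erase _ _ (Finset.mem_univ i)]
    have hrest : ∑ j ∈ Finset.univ.erase i, X.presheaf.germ U (z i) hxU (g j) ∈
        IsLocalRing.maximalIdeal (X.presheaf.stalk (z i)) :=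
      Ideal.sum_mem _ fun j hj ↦ (IsLocalRing.mem_maximalIdeal _).mpr fun hu ↦
        hz' i j (Finset.ne_of_mem_erase hj) ((mem_genLocus_iff_isUnit_germ he _ (hg j) hxU).mpr hu)
    by_contra hu
    have := Ideal.sub_mem _ ((IsLocalRing.mem_maximalIdeal _).mpr hu) hrest
    rw [add_sub_cancel_right, IsLocalRing.mem_maximalIdeal] at this
    exact this ((mem_genLocus_iff_isUnit_germ he _ (hg i) hxU).mp (hz i))
  · by_contra hnot
    obtain ⟨U, -, hxU, -, e, he⟩ := exists_isFrame hL (W := ⊤) (x := x) trivial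
    choose g hg using fun j ↦ he.bijective.2 (sect (c j) U)
    rw [mem_genLocus_iff_isUnit_germ he _ (f := ∑ j, g j)
      (by simp only [Finset.sum_smul, sect_sum]; exact Finset.sum_congr rfl fun j _ ↦ hg j) hxU,
      map_sum] at hx
    exact (IsLocalRing.mem_maximalIdeal _).mp (Ideal.sum_mem (IsLocalRing.maximalIdeal _) fun j _ ↦
      (IsLocalRing.mem_maximalIdeal _).mpr fun hu ↦ hnot
        (Opens.mem_iSup.mpr ⟨j, (mem_genLocus_iff_isUnit_germ he _ (hg j) hxU).mpr hu⟩)) hx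

/-- Representatives of a finite set for specialization, with separating open sets. -/
lemma exists_separating {Z : Set X} (hZ : Z.Finite) (W : X.Opens) (hZW : Z ⊆ W) :
    ∃ Z' : Set X, Z' ⊆ Z ∧ (∀ U : X.Opens, Z' ⊆ U → Z ⊆ U) ∧
      ∀ z ∈ Z', ∃ V : X.Opens, z ∈ V ∧ V ≤ W ∧ ∀ w ∈ Z', w ≠ z → w ∉ V := by
  refine ⟨{z ∈ Z | ∀ w ∈ Z, z ⤳ w → w = z}, fun z hz ↦ hz.1, fun U hU z hz ↦ ?_, fun z hz ↦ ?_⟩
  · obtain ⟨w, ⟨hwZ, hzw⟩, hmin⟩ := Set.Finite.exists_minimalFor (fun w ↦ closure ({w} : Set X))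
      {w ∈ Z | z ⤳ w} (hZ.subset fun w hw ↦ hw.1) ⟨z, hz, specializes_rfl⟩
    refine hzw.mem_open U.2 (hU ⟨hwZ, fun v hv hwv ↦ ?_⟩)
    refine ((specializes_iff_closure_subset.mpr
      (hmin ⟨hv, hzw.trans hwv⟩ hwv.closure_subset)).antisymm hwv).eq
  · have hK : IsClosed (⋃ w ∈ {z ∈ Z | ∀ w ∈ Z, z ⤳ w → w = z} \ {z}, closure ({w} : Set X)) :=
      (hZ.subset fun w hw ↦ hw.1.1).isClosed_biUnion fun w _ ↦ isClosed_closure
    refine ⟨W ⊓ ⟨_, hK.isOpen_compl⟩, ⟨hZW hz.1, ?_⟩, inf_le_left, fun w hw hne h ↦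
      h.2 (Set.mem_biUnion ⟨hw, hne⟩ (subset_closure rfl))⟩
    intro h
    obtain ⟨w, ⟨hw, hne⟩, hwz⟩ := Set.mem_iUnion₂.mp h
    exact hne (hw.2 z hz.1 (specializes_iff_mem_closure.mpr hwz)).symm

/-- A finite set in an open lies in an affine locus of generation inside the open. -/
theorem exists_affine_genLocus_of_finite (h : CohB1.IsAmple L) {Z : Set X} (hZ : Z.Finite)
    (W : X.Opens) (hZW : Z ⊆ W) :
    ∃ (n : ℕ) (s : Coh.structureModule X ⟶ CohB1.tensorPow L (n + 1)),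
      Z ⊆ CohB1.genLocus _ s ∧ CohB1.genLocus _ s ≤ W ∧ IsAffineOpen (CohB1.genLocus _ s) := by
  obtain ⟨Z', hZ'Z, hgen, hsep⟩ := exists_separating hZ W hZW
  choose V hzV hVW hV using fun z : Z' ↦ hsep z.1 z.2
  choose n s hzs hsV hs using fun z : Z' ↦ exists_affine_genLocus_le h (hzV z)
  haveI := (hZ.subset hZ'Z).fintype
  have hd : ∀ z, n z + 1 ∣ ∏ w : Z', (n w + 1) := fun z ↦ Finset.dvd_prod_of_mem _ (Finset.mem_univ z)
  have hpos : 0 < ∏ w : Z', (n w + 1) := Finset.prod_pos fun w _ ↦ Nat.succ_pos _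
  obtain ⟨N, hN⟩ := Nat.exists_eq_succ_of_ne_zero hpos.ne'
  rw [hN] at hd
  choose c hc using fun z ↦ exists_same_genLocus h.1 (Nat.succ_pos N) (hd z) (s z)
  obtain ⟨t, ht, hzt, htle⟩ := exists_affine_genLocus_of_family (TensorMod.isInvertible_tensorPow h.1 _) c
    (fun z ↦ by rw [hc z]; exact hs z) (fun z ↦ z.1) (fun z ↦ by rw [hc z]; exact hzs z)
    (fun z w hwz hm ↦ hV w z.1 z.2 (fun e ↦ hwz (Subtype.ext e.symm)) (hsV w (hc w ▸ hm)))
  exact ⟨N, t, hgen _ fun z hz ↦ hzt ⟨z, hz⟩, htle.trans (iSup_le fun z ↦ (hc z).le.trans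
    ((hsV z).trans (hVW z))), ht⟩

/-- On a quasi-affine scheme sections of an invertible module have loci forming a basis. -/
theorem exists_affine_genLocus_le_of_isQuasiAffine [X.IsQuasiAffine] (hL : PicF.IsInvertible L)
    {x : X} {W : X.Opens} (hx : x ∈ W) :
    ∃ s : Coh.structureModule X ⟶ L, x ∈ CohB1.genLocus L s ∧ CohB1.genLocus L s ≤ W ∧
      IsAffineOpen (CohB1.genLocus L s) := by
  obtain ⟨U, hU, hxU, hUW, e, he⟩ := exists_isFrame hL hx
  obtain ⟨_, ⟨r, hr, rfl⟩, hxr, hrU⟩ :=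
    Opens.isBasis_iff_nbhd.1 (Scheme.IsQuasiAffine.isBasis_basicOpen X) hxU
  haveI : L.IsQuasicoherent := TensorMod.isQCoh_of_isInvertible hL
  obtain ⟨n, y, hy⟩ := exists_pow_smul_eq_mres_of_qcqs L (V := ⊤) isCompact_univ
    (isQuasiSeparated_univ) r rfl (X.basicOpen_le r) (mres L hrU e)
  have key : CohB1.genLocus L (homOfSection L (r • y)) = X.basicOpen r := by
    set s := homOfSection L (r • y)
    refine le_antisymm (fun z hz ↦ ?_) ?_
    · obtain ⟨V, -, hzV, -, d, hd⟩ := exists_isFrame hL (W := ⊤) (x := z) trivial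
      obtain ⟨a, ha⟩ := hd.bijective.2 (mres L (le_top : V ≤ ⊤) y)
      have := (mem_genLocus_iff_isUnit_germ hd s (f := ores le_top r * a)
        (by rw [mul_smul, show a • d = mres L (le_top : V ≤ ⊤) y from ha, sect_homOfSection, mres_smul]) hzV).mp hz
      rw [map_mul] at this
      have h2 : z ∈ X.basicOpen (ores (le_top : V ≤ ⊤) r) :=
        (Scheme.mem_basicOpen X _ z hzV).mpr (isUnit_of_mul_isUnit_left this)
      rw [basicOpen_ores] at h2
      exact h2.2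
    · refine le_sSup ((isIso_restrict_iff s _).mpr ?_)
      rw [sect_homOfSection, mres_smul, hy, smul_smul]
      refine (he.res hrU).smul_unit ?_
      have hu : IsUnit (ores (X.basicOpen_le r) r) := RingedSpace.isUnit_res_basicOpen X.toRingedSpace r
      exact hu.mul (hu.pow n)
  exact ⟨_, key ▸ hxr, key.le.trans (hrU.trans hUW), key ▸ hr⟩

theorem exists_affine_genLocus_of_isQuasiAffine [X.IsQuasiAffine] (hL : PicF.IsInvertible L)
    {Z : Set X} (hZ : Z.Finite) (W : X.Opens) (hZW : Z ⊆ W) :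
    ∃ s : Coh.structureModule X ⟶ L, IsAffineOpen (CohB1.genLocus L s) ∧ Z ⊆ CohB1.genLocus L s ∧
      CohB1.genLocus L s ≤ W := by
  obtain ⟨Z', hZ'Z, hgen, hsep⟩ := exists_separating hZ W hZW
  choose V hzV hVW hV using fun z : Z' ↦ hsep z.1 z.2
  choose s hzs hsV hs using fun z : Z' ↦ exists_affine_genLocus_le_of_isQuasiAffine hL (hzV z)
  haveI := (hZ.subset hZ'Z).fintype
  obtain ⟨t, ht, hzt, htle⟩ := exists_affine_genLocus_of_family hL s hs (fun z ↦ z.1) hzs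
    (fun z w hwz hm ↦ hV w z.1 z.2 (fun e ↦ hwz (Subtype.ext e.symm)) (hsV w hm))
  exact ⟨t, ht, hgen _ fun z hz ↦ hzt ⟨z, hz⟩, htle.trans (iSup_le fun z ↦ (hsV z).trans (hVW z))⟩

end Groth.Agent.GenLocus
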