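import Groth.Agent.GenLocus.PullTensor
import Groth.Agent.GenLocus.Ample

/-!
# Ampleness and inverse images
-/

set_option autoImplicit false
set_option backward.isDefEq.respectTransparency false
set_option backward.isDefEq.respectTransparency.types false

noncomputable section

universe u

open CategoryTheory Limits AlgebraicGeometry Opposite TopologicalSpace

namespace Groth.Agent.GenLocus

variable {X Y : Scheme.{u}}

/-- Inverse image of an ample module along an affine morphism is ample. -/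
theorem isAmple_pullback_of_isAffineHom (g : X ⟶ Y) [IsAffineHom g] {L : Y.Modules}
    (hL : CohB1.IsAmple L) : CohB1.IsAmple ((Scheme.Modules.pullback g).obj L) := by
  haveI := hL.2.1
  refine ⟨isInvertible_pullback g hL.1, QuasiCompact.compactSpace_of_compactSpace g, fun x ↦ ?_⟩
  obtain ⟨n, s, hxs, hs⟩ := hL.2.2 (g x)
  obtain ⟨c, hc⟩ := exists_genLocus_pullback g hL.1 s
  exact ⟨n, c, hc ▸ hxs, hc ▸ hs.preimage g⟩

/-- Inverse image of an ample module along a topological embedding of a quasi-compact scheme. -/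
theorem isAmple_pullback_of_isEmbedding (g : X ⟶ Y) [CompactSpace X] (hg : Topology.IsEmbedding g)
    {L : Y.Modules} (hL : CohB1.IsAmple L) : CohB1.IsAmple ((Scheme.Modules.pullback g).obj L) := by
  refine (isAmple_iff_isBasis (isInvertible_pullback g hL.1)).mpr
    (Opens.isBasis_iff_nbhd.mpr fun {W x} hx ↦ ?_)
  obtain ⟨V, hV, hVW⟩ := hg.toIsInducing.isOpen_iff.mp W.2
  obtain ⟨n, s, hxs, hsV, -⟩ := exists_affine_genLocus_le hL (W := ⟨V, hV⟩)
    (x := g x) (show x ∈ g ⁻¹' V by rw [hVW]; exact hx)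
  obtain ⟨c, hc⟩ := exists_genLocus_pullback g hL.1 s
  exact ⟨_, ⟨n, c, rfl⟩, hc ▸ hxs, fun y hy ↦ hVW.le (hsV (show g y ∈ CohB1.genLocus _ s from (hc ▸ hy :)))⟩

/-- `(A ⊗ B) ⊗ (C ⊗ D) ≅ (A ⊗ C) ⊗ (B ⊗ D)`. -/
def interchangeIso (A B C D : X.Modules) :
    CohB1.tensorMod (CohB1.tensorMod A B) (CohB1.tensorMod C D) ≅
      CohB1.tensorMod (CohB1.tensorMod A C) (CohB1.tensorMod B D) :=
  TensorMod.assocIso A B _ ≪≫
    TensorMod.tensorIso (Iso.refl A) ((TensorMod.assocIso B C D).symm ≪≫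
      TensorMod.tensorIso (TensorMod.commIso B C) (Iso.refl D) ≪≫ TensorMod.assocIso C B D) ≪≫
    (TensorMod.assocIso A C _).symm

/-- Powers of a tensor product. -/
def tensorPowTensorIso (L M : X.Modules) : ∀ n : ℕ,
    CohB1.tensorPow (CohB1.tensorMod L M) n ≅ CohB1.tensorMod (CohB1.tensorPow L n) (CohB1.tensorPow M n)
  | 0 => (TensorMod.unitRightIso _).symm
  | n + 1 => TensorMod.tensorIso (tensorPowTensorIso L M n) (Iso.refl _) ≪≫ interchangeIso _ _ _ _

/-- The product of two sections of powers, on the tensor product. -/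
theorem exists_genLocus_prod {L M : X.Modules} (hL : PicF.IsInvertible L) (hM : PicF.IsInvertible M) :
    ∀ (n : ℕ) (a : Coh.structureModule X ⟶ CohB1.tensorPow L n) (b : Coh.structureModule X ⟶ CohB1.tensorPow M n),
      ∃ c : Coh.structureModule X ⟶ CohB1.tensorPow (CohB1.tensorMod L M) n,
        CohB1.genLocus _ c = CohB1.genLocus _ a ⊓ CohB1.genLocus _ b := by
  intro n a b
  exact ⟨SecTwist.tmulHom a b ≫ (tensorPowTensorIso L M n).symm.hom,
    (genLocus_comp_iso _ _).trans (genLocus_tmulHom (TensorMod.isInvertible_tensorPow hL n)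
      (TensorMod.isInvertible_tensorPow hM n) a b)⟩

/-- The exterior product of ample modules is ample. -/
theorem isAmple_prod {S : Scheme.{u}} [QuasiSeparatedSpace S] (f : X ⟶ S) (g : Y ⟶ S)
    {L : X.Modules} {N : Y.Modules} (hL : CohB1.IsAmple L) (hN : CohB1.IsAmple N) :
    CohB1.IsAmple (CohB1.tensorMod ((Scheme.Modules.pullback (pullback.fst f g)).obj L)
      ((Scheme.Modules.pullback (pullback.snd f g)).obj N)) := by
  haveI := hL.2.1
  haveI := hN.2.1
  haveI : QuasiCompact g := quasiCompact_of_compactSpace g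
  have h1 := isInvertible_pullback (pullback.fst f g) hL.1
  have h2 := isInvertible_pullback (pullback.snd f g) hN.1
  refine ⟨TensorMod.isInvertible_tensorMod h1 h2, QuasiCompact.compactSpace_of_compactSpace (pullback.fst f g),
    fun z ↦ ?_⟩
  let x := pullback.fst f g z
  let y := pullback.snd f g z
  have hxy : f x = g y := by
    show f (pullback.fst f g z) = g (pullback.snd f g z)
    rw [← Scheme.Hom.comp_apply, pullback.condition, Scheme.Hom.comp_apply]
  obtain ⟨(V : S.Opens), hV, hxV, -⟩ := Opens.isBasis_iff_nbhd.1 S.isBasis_affineOpens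
    (show f x ∈ (⊤ : S.Opens) from trivial)
  obtain ⟨m, s, hxs, hsV, hs⟩ := exists_affine_genLocus_le hL (W := f ⁻¹ᵁ V) (x := x) hxV
  obtain ⟨n, t, hyt, htV, ht⟩ := exists_affine_genLocus_le hN (W := g ⁻¹ᵁ V) (x := y)
    (show g y ∈ V by rw [← hxy]; exact hxV)
  have hN₀ : 0 < (m + 1) * (n + 1) := Nat.mul_pos m.succ_pos n.succ_pos
  obtain ⟨k, hk⟩ := Nat.exists_eq_succ_of_ne_zero hN₀.ne'
  obtain ⟨s', hs'⟩ := exists_same_genLocus hL.1 k.succ_pos (hk ▸ Dvd.intro _ rfl) s
  obtain ⟨t', ht'⟩ := exists_same_genLocus hN.1 k.succ_pos (hk ▸ Dvd.intro_left _ rfl) t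
  obtain ⟨a, ha⟩ := exists_genLocus_pullback (pullback.fst f g) hL.1 s'
  obtain ⟨b, hb⟩ := exists_genLocus_pullback (pullback.snd f g) hN.1 t'
  obtain ⟨c, hc⟩ := exists_genLocus_prod h1 h2 _ a b
  refine ⟨k, c, ?_, ?_⟩
  · rw [hc, ha, hb, hs', ht']
    exact ⟨hxs, hyt⟩
  rw [hc, ha, hb, hs', ht']
  generalize CohB1.genLocus _ s = A at hs hsV
  generalize CohB1.genLocus _ t = B at ht htV
  haveI : IsAffine A := hs
  haveI : IsAffine B := ht
  haveI : IsAffine V := hV
  let φ : (A : Scheme.{u}) ⟶ V := IsOpenImmersion.lift (Scheme.Opens.ι V) (A.ι ≫ f) (by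
    rintro _ ⟨a, rfl⟩; rw [Scheme.Opens.range_ι]; exact hsV a.2)
  let ψ : (B : Scheme.{u}) ⟶ V := IsOpenImmersion.lift (Scheme.Opens.ι V) (B.ι ≫ g) (by
    rintro _ ⟨b, rfl⟩; rw [Scheme.Opens.range_ι]; exact htV b.2)
  let μ : pullback φ ψ ⟶ pullback f g := pullback.map φ ψ f g A.ι B.ι (Scheme.Opens.ι V)
    (IsOpenImmersion.lift_fac _ _ _) (IsOpenImmersion.lift_fac _ _ _)
  have : (pullback.fst f g ⁻¹ᵁ A ⊓ pullback.snd f g ⁻¹ᵁ B) = μ.opensRange := by
    refine Opens.ext ?_
    show _ = Set.range μ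
    rw [Scheme.Pullback.range_map, Scheme.Opens.range_ι, Scheme.Opens.range_ι]
    rfl
  rw [this]
  exact isAffineOpen_opensRange μ

end Groth.Agent.GenLocus
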