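import Groth.Agent.GenLocus.AmplePull
import Groth.Agent.FpqcDescent.QuasiAffine
import Groth.Prelude.Def_ClSub2
import Groth.Prelude.Def_LCI2

/-!
# Relative ampleness: basic properties
-/

set_option autoImplicit false
set_option backward.isDefEq.respectTransparency false
set_option backward.isDefEq.respectTransparency.types false

noncomputable section

universe u

open CategoryTheory Limits AlgebraicGeometry Opposite TopologicalSpace
open Groth.Agent.QCohBase

namespace Groth.Agent.GenLocus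

variable {X Y : Scheme.{u}}

theorem isAmple_of_iso {L L' : X.Modules} (e : L ≅ L') (h : CohB1.IsAmple L) : CohB1.IsAmple L' := by
  refine ⟨TensorMod.isInvertible_of_iso e h.1, h.2.1, fun x ↦ ?_⟩
  obtain ⟨n, s, hxs, hs⟩ := h.2.2 x
  refine ⟨n, s ≫ (TensorMod.tensorPowCongr e (n + 1)).hom, ?_⟩
  rw [genLocus_comp_iso]
  exact ⟨hxs, hs⟩

theorem isAmple_iff_of_iso {L L' : X.Modules} (e : L ≅ L') : CohB1.IsAmple L ↔ CohB1.IsAmple L' :=
  ⟨isAmple_of_iso e, isAmple_of_iso e.symm⟩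

theorem genLocus_iso_comp {L : X.Modules} (e : Coh.structureModule X ≅ Coh.structureModule X)
    (s : Coh.structureModule X ⟶ L) : CohB1.genLocus L (e.hom ≫ s) = CohB1.genLocus L s := by
  have : ∀ U : X.Opens, IsIso ((Scheme.Modules.restrictFunctor U.ι).map (e.hom ≫ s)) ↔
      IsIso ((Scheme.Modules.restrictFunctor U.ι).map s) := fun U ↦ by
    rw [Functor.map_comp]; exact isIso_comp_left_iff _ _
  simp only [CohB1.genLocus, this]

lemma pullUnitMap_pullSec (g : X ⟶ Y) (V : Y.Opens) :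
    (pullUnitMap g).app _ (pullSec g _ V (sect (𝟙 (Coh.structureModule Y)) V)) =
      sect (𝟙 (Coh.structureModule X)) (g ⁻¹ᵁ V) := by
  have h1 := Adjunction.homEquiv_unit (Scheme.Modules.pullbackPushforwardAdjunction g) _ _ (pullUnitMap g)
  rw [pullUnitMap, Equiv.apply_symm_apply] at h1
  have e1 := congr($(congrArg (fun ψ ↦ Scheme.Modules.Hom.app ψ V) h1) (sect (𝟙 (Coh.structureModule Y)) V))
  refine e1.symm.trans ((sect_homOfSection _ _ V).trans ?_)
  exact mres_sect (𝟙 (Coh.structureModule X)) (g.preimage_mono (le_top : V ≤ ⊤))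

lemma pullback_map_eq (g : X ⟶ Y) {L : Y.Modules} (s : Coh.structureModule Y ⟶ L) :
    (Scheme.Modules.pullback g).map s = pullUnitMap g ≫ pullHom g s := by
  refine pull_hom_ext g fun V r ↦ ?_
  obtain ⟨r', hr'⟩ : ∃ r' : Γ(Y, V), r = r' • sect (𝟙 (Coh.structureModule Y)) V :=
    ⟨r, app_eq_smul (𝟙 (Coh.structureModule Y)) V r⟩
  rw [hr', pullSec_smul, Scheme.Modules.Hom.comp_app]
  show _ = (pullHom g s).app _ ((pullUnitMap g).app _ (g.app V r' • _))
  rw [app_smul', app_smul', app_smul', pullSec_naturality, pullUnitMap_pullSec]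
  congr 1
  exact (sect_pullHom g s V).symm

theorem genLocus_pullback_map (g : X ⟶ Y) {L : Y.Modules} (hL : PicF.IsInvertible L)
    (s : Coh.structureModule Y ⟶ L)
    (e : Coh.structureModule X ≅ (Scheme.Modules.pullback g).obj (Coh.structureModule Y)) :
    CohB1.genLocus _ (e.hom ≫ (Scheme.Modules.pullback g).map s) = g ⁻¹ᵁ CohB1.genLocus L s := by
  haveI : IsIso (pullUnitMap g) := (pullUnitIso g).isIso_hom
  rw [pullback_map_eq, ← Category.assoc, ← genLocus_pullHom g hL s,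
    ← genLocus_iso_comp (e ≪≫ pullUnitIso g) (pullHom g s)]
  rfl

theorem isAmple_tensorPow_iff [CompactSpace X] {L : X.Modules} (hL : PicF.IsInvertible L) {n : ℕ}
    (hn : 0 < n) : CohB1.IsAmple L ↔ CohB1.IsAmple (CohB1.tensorPow L n) := by
  obtain ⟨n, rfl⟩ := Nat.exists_eq_succ_of_ne_zero hn.ne'
  refine ⟨fun h ↦ ⟨TensorMod.isInvertible_tensorPow hL _, inferInstance, fun x ↦ ?_⟩,
    fun h ↦ ⟨hL, inferInstance, fun x ↦ ?_⟩⟩
  · obtain ⟨m, s, hxs, hs⟩ := h.2.2 x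
    refine ⟨m, SecTwist.powHom s (n + 1) ≫ (TensorMod.tensorPowMulIso L (m + 1) (n + 1)).hom ≫
      eqToHom (congrArg (CohB1.tensorPow L) (Nat.mul_comm (m + 1) (n + 1))) ≫
      (TensorMod.tensorPowMulIso L (n + 1) (m + 1)).inv, ?_⟩
    have : CohB1.genLocus _ (SecTwist.powHom s (n + 1) ≫ ((TensorMod.tensorPowMulIso L (m + 1) (n + 1)) ≪≫
        eqToIso (congrArg (CohB1.tensorPow L) (Nat.mul_comm (m + 1) (n + 1))) ≪≫
        (TensorMod.tensorPowMulIso L (n + 1) (m + 1)).symm).hom) = CohB1.genLocus _ s :=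
      (genLocus_comp_iso _ _).trans (genLocus_powHom (TensorMod.isInvertible_tensorPow hL _) s n)
    exact ⟨this ▸ hxs, this ▸ hs⟩
  · obtain ⟨m, s, hxs, hs⟩ := h.2.2 x
    obtain ⟨k, hk⟩ : ∃ k, (n + 1) * (m + 1) = k + 1 :=
      ⟨(n + 1) * m + n, by rw [Nat.mul_succ, Nat.add_assoc]⟩
    refine ⟨k, s ≫ (TensorMod.tensorPowMulIso L (n + 1) (m + 1) ≪≫ eqToIso (congrArg (CohB1.tensorPow L) hk)).hom, ?_⟩
    rw [genLocus_comp_iso]
    exact ⟨hxs, hs⟩

theorem isAmple_tensorMod {L L' : X.Modules} (hL : CohB1.IsAmple L) (hL' : PicF.IsInvertible L')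
    (h : ∀ x : X, ∃ (n : ℕ) (s : Coh.structureModule X ⟶ CohB1.tensorPow L' (n + 1)), x ∈ CohB1.genLocus _ s) :
    CohB1.IsAmple (CohB1.tensorMod L L') := by
  refine ⟨TensorMod.isInvertible_tensorMod hL.1 hL', hL.2.1, fun x ↦ ?_⟩
  obtain ⟨m, s, hxs, hs⟩ := hL.2.2 x
  obtain ⟨n, t, hxt⟩ := h x
  obtain ⟨k, hk⟩ := Nat.exists_eq_succ_of_ne_zero (Nat.mul_pos m.succ_pos n.succ_pos).ne'
  obtain ⟨s', hs'⟩ := exists_same_genLocus hL.1 k.succ_pos (hk ▸ Dvd.intro _ rfl) s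
  obtain ⟨t', ht'⟩ := exists_same_genLocus hL' k.succ_pos (hk ▸ Dvd.intro_left _ rfl) t
  obtain ⟨c, hc⟩ := exists_genLocus_prod hL.1 hL' _ s' t'
  refine ⟨k, c, ?_⟩
  rw [hc, hs', ht', inf_comm]
  exact ⟨⟨hxt, hxs⟩, isAffineOpen_genLocus_inf (TensorMod.isInvertible_tensorPow hL' _) t hs⟩

/-- All tensor powers of the structure sheaf are trivial. -/
def tensorPowUnitIso (X : Scheme.{u}) :
    ∀ n : ℕ, CohB1.tensorPow (Coh.structureModule X) n ≅ Coh.structureModule X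
  | 0 => Iso.refl _
  | n + 1 => TensorMod.tensorIso (tensorPowUnitIso X n) (Iso.refl _) ≪≫ TensorMod.unitLeftIso _

lemma exists_basicOpen_eq_genLocus {n : ℕ}
    (s : Coh.structureModule X ⟶ CohB1.tensorPow (Coh.structureModule X) n) :
    ∃ f : Γ(X, ⊤), CohB1.genLocus _ s = X.basicOpen f := by
  have hfr : IsFrame _ (sect (𝟙 (Coh.structureModule X)) (⊤ : X.Opens)) := (isIso_restrict_iff _ _).mp
    (by rw [CategoryTheory.Functor.map_id]; infer_instance)
  obtain ⟨f, -, hf⟩ := genLocus_inf_frame (s ≫ (tensorPowUnitIso X n).hom) hfr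
  rw [inf_top_eq, genLocus_comp_iso] at hf
  exact ⟨f, hf⟩

theorem isQuasiAffine_iff_isAmple :
    X.IsQuasiAffine ↔ CohB1.IsAmple (Coh.structureModule X) := by
  refine ⟨fun h ↦ ⟨PicLoc.isInvertible_structureModule X,
    inferInstance, fun x ↦ ?_⟩, fun h ↦ ?_⟩
  · obtain ⟨s, hxs, -, hs⟩ := exists_affine_genLocus_le_of_isQuasiAffine
      (L := CohB1.tensorPow (Coh.structureModule X) 1)
      (TensorMod.isInvertible_tensorPow (PicLoc.isInvertible_structureModule X) 1) (W := ⊤) (x := x) trivial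
    exact ⟨0, s, hxs, hs⟩
  · haveI := h.2.1
    refine .of_forall_exists_mem_basicOpen _ fun x ↦ ?_
    obtain ⟨n, s, hxs, hs⟩ := h.2.2 x
    obtain ⟨f, hf⟩ := exists_basicOpen_eq_genLocus s
    exact ⟨f, hf ▸ hs, hf ▸ hxs⟩

theorem isQuasiAffine_of_inverse {L L' : X.Modules} (hinv : ClSub.IsInverseOf L L')
    (hL : CohB1.IsAmple L) (hL' : CohB1.IsAmple L') : X.IsQuasiAffine := by
  obtain ⟨e⟩ : Nonempty (CohB1.tensorMod L L' ≅ Coh.structureModule X) := ⟨hinv.some⟩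
  refine isQuasiAffine_iff_isAmple.mpr (isAmple_of_iso e (isAmple_tensorMod hL hL'.1 fun x ↦ ?_))
  obtain ⟨n, s, hxs, -⟩ := hL'.2.2 x
  exact ⟨n, s, hxs⟩

/-- An extension of a section on a basic open, with the same locus. -/
theorem exists_genLocus_of_basicOpen [CompactSpace X] [QuasiSeparatedSpace X] {M : X.Modules}
    (hM : PicF.IsInvertible M) {r : Γ(X, ⊤)} {W : X.Opens} (hW : W = X.basicOpen r)
    (s : Coh.structureModule W.toScheme ⟶ M.restrict W.ι) :
    ∃ c : Coh.structureModule X ⟶ M, CohB1.genLocus M c = W.ι ''ᵁ CohB1.genLocus _ s := by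
  haveI : M.IsQuasicoherent := TensorMod.isQCoh_of_isInvertible hM
  have htop : W ≤ W.ι ''ᵁ ⊤ := W.ι_image_top.ge
  obtain ⟨τ, hτ⟩ : ∃ τ : Γ(M, W), τ = mres M htop ((M.restrictAppIso W.ι ⊤).hom (sect s ⊤)) := ⟨_, rfl⟩
  obtain ⟨n, y, hy⟩ := exists_pow_smul_eq_mres_of_qcqs M (V := ⊤) isCompact_univ
    isQuasiSeparated_univ r hW le_top τ
  have hsect : ∀ (V : W.toScheme.Opens) (h : W.ι ''ᵁ V ≤ W),
      mres M h τ = (M.restrictAppIso W.ι V).hom (sect s V) := fun V h ↦ by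
    rw [hτ, mres_mres, ← mres_sect s (le_top : V ≤ ⊤)]
    rfl
  have hu : IsUnit (ores (le_top : W ≤ ⊤) r) := by
    subst hW; exact RingedSpace.isUnit_res_basicOpen X.toRingedSpace r
  have hframe : ∀ (V : W.toScheme.Opens) (h : W.ι ''ᵁ V ≤ W),
      IsFrame M (mres M h τ) ↔ IsFrame (M.restrict W.ι) (sect s V) := by
    intro V h
    rw [hsect V h]
    have hsm : ∀ (V' : W.toScheme.Opens) (hV' : V' ≤ V),
        (fun r : Γ(X, W.ι ''ᵁ V') ↦ r • mres M (W.ι.image_mono hV') ((M.restrictAppIso W.ι V).hom (sect s V))) =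
        fun r : Γ(X, W.ι ''ᵁ V') ↦ (M.restrictAppIso W.ι V').hom
          ((show Γ(W.toScheme, V') from r) • mres (M.restrict W.ι) hV' (sect s V)) := fun V' hV' ↦ funext fun r ↦ by
      rw [Scheme.Modules.smul_restrictAppIso_hom_apply, Scheme.Opens.ι_appIso]
      rfl
    constructor
    · intro hf V' hV'
      have := hf (W.ι ''ᵁ V') (W.ι.image_mono hV')
      rw [hsm V' hV'] at this
      exact this
    · intro hf V' hV'
      obtain ⟨V'', rfl⟩ : ∃ V'' : W.toScheme.Opens, W.ι ''ᵁ V'' = V' :=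
        ⟨W.ι ⁻¹ᵁ V', (W.ι.image_preimage_eq_opensRange_inf V').trans
          (by rw [Scheme.Opens.opensRange_ι]; exact inf_eq_right.mpr (hV'.trans h))⟩
      have := hf V'' ((W.ι.image_le_image_iff _ _).mp hV')
      rw [hsm V'' ((W.ι.image_le_image_iff _ _).mp hV')]
      exact this
  refine ⟨homOfSection M (r • y), Opens.ext (Set.ext fun x ↦ ⟨fun hx ↦ ?_, fun hx ↦ ?_⟩)⟩
  · obtain ⟨V, hxV, hV⟩ := (mem_genLocus_iff _).mp hx
    have hxW : x ∈ W := by
      obtain ⟨U, -, hxU, hUV, d, hd⟩ := exists_isFrame hM hxV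
      obtain ⟨a, ha⟩ := hd.bijective.2 (mres M (le_top : U ≤ ⊤) y)
      have h1 := (mem_genLocus_iff_isUnit_germ hd (homOfSection M (r • y)) (f := ores le_top r * a)
        (by rw [mul_smul, show a • d = mres M (le_top : U ≤ ⊤) y from ha, sect_homOfSection, mres_smul])
        hxU).mp hx
      rw [map_mul] at h1
      have h2 : x ∈ X.basicOpen (ores (le_top : U ≤ ⊤) r) :=
        (Scheme.mem_basicOpen X _ x hxU).mpr (isUnit_of_mul_isUnit_left h1)
      rw [basicOpen_ores] at h2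
      rw [hW]; exact h2.2
    refine ⟨⟨x, hxW⟩, (mem_genLocus_iff s).mpr ⟨W.ι ⁻¹ᵁ V, hxV, ?_⟩, rfl⟩
    have hle : W.ι ''ᵁ (W.ι ⁻¹ᵁ V) ≤ W := (W.ι.image_le_opensRange _).trans_eq W.opensRange_ι
    rw [← hframe _ hle]
    have h3 := hV.res (W.ι.image_preimage_le V)
    rw [mres_sect, sect_homOfSection, ← mres_mres M (le_top : W ≤ ⊤) hle, mres_smul, hy, mres_smul,
      mres_smul, smul_smul] at h3
    intro V' hV'
    have h4 := h3.res hV'
    rw [mres_smul, map_mul, map_pow] at h4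
    obtain ⟨u, hu'⟩ : IsUnit (ores hV' (ores hle (ores (le_top : W ≤ ⊤) r)) *
        ores hV' (ores hle (ores (le_top : W ≤ ⊤) r)) ^ n) := by
      have := (hu.map (ores hle)).map (ores hV')
      exact this.mul (this.pow n)
    have h5 := h4.smul_unit (Units.isUnit u⁻¹)
    simp only [map_pow] at h5
    rw [smul_smul, ← hu', Units.inv_mul, one_smul] at h5
    simpa only [mres_mres, mres_refl] using h5 V' le_rfl
  · obtain ⟨w, hw, rfl⟩ := hx
    obtain ⟨V, hwV, hV⟩ := (mem_genLocus_iff s).mp hw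
    refine (mem_genLocus_iff _).mpr ⟨W.ι ''ᵁ V, ⟨w, hwV, rfl⟩, ?_⟩
    have hle : W.ι ''ᵁ V ≤ W := (W.ι.image_le_opensRange _).trans_eq W.opensRange_ι
    rw [sect_homOfSection, ← mres_mres M (le_top : W ≤ ⊤) hle, mres_smul, hy, mres_smul, mres_smul,
      smul_smul, map_pow]
    exact ((hframe V hle).mpr hV).smul_unit ((hu.map (ores hle)).mul ((hu.map (ores hle)).pow n))

theorem isAmple_pullback_of_isQuasiAffine (g : X ⟶ Y) (hg : Mor2.IsQuasiAffine g) {L : Y.Modules}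
    (hL : CohB1.IsAmple L) : CohB1.IsAmple ((Scheme.Modules.pullback g).obj L) := by
  haveI := hg.1
  haveI := hL.2.1
  haveI := isSeparated_of_isAmple hL
  haveI : CompactSpace X := QuasiCompact.compactSpace_of_compactSpace g
  haveI : QuasiSeparatedSpace X := by
    haveI : IsSeparated g := by
      refine IsZariskiLocalAtTarget.of_iSup_eq_top (P := @IsSeparated)
        (fun V : Y.affineOpens ↦ V.1) (iSup_affineOpens_eq_top Y) fun V ↦ ?_
      haveI := hg.2 V V.2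
      infer_instance
    exact quasiSeparatedSpace_of_quasiSeparated g
  refine ⟨isInvertible_pullback g hL.1, inferInstance, fun x ↦ ?_⟩
  obtain ⟨n, s, hxs, hs⟩ := hL.2.2 (g x)
  obtain ⟨c, hc⟩ := exists_genLocus_pullback g hL.1 s
  haveI : (CohB1.genLocus _ c).toScheme.IsQuasiAffine := by rw [hc]; exact hg.2 _ hs
  set U := CohB1.genLocus _ c with hU
  have hxU : x ∈ U := by rw [hc]; exact hxs
  obtain ⟨_, ⟨_, ⟨r, hr, rfl⟩, rfl⟩, hxr, -⟩ := (Scheme.IsQuasiAffine.isBasis_basicOpen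
    U.toScheme).exists_subset_of_mem_open (Set.mem_univ ⟨x, hxU⟩) isOpen_univ
  obtain ⟨m, d, hd⟩ := exists_genLocus_eq_basicOpen (isInvertible_pullback g hL.1) c (U.topIso.hom r)
  have himg : X.basicOpen (U.topIso.hom r) = U.ι ''ᵁ U.toScheme.basicOpen r := by
    rw [Scheme.image_basicOpen]
    simp [Scheme.Opens.topIso]
    exact X.basicOpen_res_eq _ _
  refine ⟨m, d, ?_⟩
  rw [hd, himg]
  exact ⟨⟨⟨x, hxU⟩, hxr, rfl⟩, hr.image_of_isOpenImmersion U.ι⟩

theorem isAmple_restrict_of_isEmbedding (g : X ⟶ Y) [CompactSpace X] (hg : Topology.IsEmbedding g)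
    [IsOpenImmersion g] {L : Y.Modules} (hL : CohB1.IsAmple L) : CohB1.IsAmple (L.restrict g) :=
  isAmple_of_iso ((Scheme.Modules.restrictFunctorIsoPullback g).symm.app L)
    (isAmple_pullback_of_isEmbedding g hg hL)

/-- For an affine base, an ample module is relatively ample. -/
theorem isRelAmple_of_isAmple [IsAffine Y] (f : X ⟶ Y) {L : X.Modules} (hL : CohB1.IsAmple L) :
    RelAmple.IsRelAmple f L := by
  haveI := hL.2.1
  haveI : QuasiCompact f := quasiCompact_of_compactSpace f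
  refine ⟨inferInstance, fun V ↦ ?_⟩
  haveI : CompactSpace (f ⁻¹ᵁ V.1).toScheme :=
    isCompact_iff_compactSpace.mp (f.isCompact_preimage V.2.isCompact)
  exact isAmple_restrict_of_isEmbedding _ (f ⁻¹ᵁ V.1).ι.isOpenEmbedding.isEmbedding hL

theorem quasiAffine_of_iso (e : X ≅ Y) (h : Y.IsQuasiAffine) : X.IsQuasiAffine :=
  Groth.Agent.FpqcDescent.isQuasiAffine_of_iso e.hom

/-- Restricting in two steps. -/
theorem isAmple_restrict_restrict (L : X.Modules) (A : X.Opens) (B : A.toScheme.Opens) :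
    CohB1.IsAmple ((L.restrict A.ι).restrict B.ι) ↔ CohB1.IsAmple (L.restrict (A.ι ''ᵁ B).ι) := by
  let C := A.ι ''ᵁ B
  let e := A.ι.isoImage B
  have h1 : (L.restrict C.ι).restrict e.hom ≅ (L.restrict A.ι).restrict B.ι :=
    (Scheme.Modules.restrictFunctorComp e.hom C.ι).symm.app L ≪≫
      (Scheme.Modules.restrictFunctorCongr (A.ι.isoImage_hom_ι B)).app L ≪≫
      (Scheme.Modules.restrictFunctorComp B.ι A.ι).app L
  have h2 : (L.restrict C.ι) ≅ ((L.restrict C.ι).restrict e.hom).restrict e.inv :=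
    (Scheme.Modules.restrictFunctorId.symm.app _) ≪≫
      (Scheme.Modules.restrictFunctorCongr e.inv_hom_id.symm).app _ ≪≫
      (Scheme.Modules.restrictFunctorComp e.inv e.hom).app _
  refine ⟨fun h ↦ ?_, fun h ↦ ?_⟩
  · have := isAmple_pullback_of_isAffineHom e.inv (isAmple_of_iso h1.symm h)
    exact isAmple_of_iso ((Scheme.Modules.restrictFunctorIsoPullback e.inv).symm.app _ ≪≫ h2.symm) this
  · exact isAmple_of_iso ((Scheme.Modules.restrictFunctorIsoPullback e.hom).symm.app _ ≪≫ h1)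
      (isAmple_pullback_of_isAffineHom e.hom h)

theorem isAmple_restrict_congr (L : X.Modules) {A B : X.Opens} (h : A = B) :
    CohB1.IsAmple (L.restrict A.ι) ↔ CohB1.IsAmple (L.restrict B.ι) := by subst h; rfl

theorem isInvertible_of_forall_restrict {L : X.Modules}
    (h : ∀ x : X, ∃ U : X.Opens, x ∈ U ∧ PicF.IsInvertible (L.restrict U.ι)) : PicF.IsInvertible L := fun x ↦ by
  obtain ⟨A, hxA, hA⟩ := h x
  obtain ⟨B, hxB, ⟨t⟩⟩ := hA ⟨x, hxA⟩
  let C := A.ι ''ᵁ B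
  let e := A.ι.isoImage B
  have h1 : (L.restrict C.ι).restrict e.hom ≅ (L.restrict A.ι).restrict B.ι :=
    (Scheme.Modules.restrictFunctorComp e.hom C.ι).symm.app L ≪≫
      (Scheme.Modules.restrictFunctorCongr (A.ι.isoImage_hom_ι B)).app L ≪≫
      (Scheme.Modules.restrictFunctorComp B.ι A.ι).app L
  have h2 : (L.restrict C.ι) ≅ ((L.restrict C.ι).restrict e.hom).restrict e.inv :=
    (Scheme.Modules.restrictFunctorId.symm.app _) ≪≫
      (Scheme.Modules.restrictFunctorCongr e.inv_hom_id.symm).app _ ≪≫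
      (Scheme.Modules.restrictFunctorComp e.inv e.hom).app _
  exact ⟨C, ⟨⟨x, hxA⟩, hxB, rfl⟩, ⟨h2 ≪≫ (Scheme.Modules.restrictFunctor e.inv).mapIso (h1 ≪≫ t) ≪≫
    Scheme.Modules.restrictUnitIso e.inv⟩⟩

/-- Relative ampleness over an open of the base. -/
theorem isRelAmple_morphismRestrict (f : X ⟶ Y) {L : X.Modules} (h : RelAmple.IsRelAmple f L)
    (U : Y.Opens) : RelAmple.IsRelAmple (f ∣_ U) (L.restrict (f ⁻¹ᵁ U).ι) := by
  haveI := h.1
  refine ⟨inferInstance, fun W ↦ ?_⟩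
  rw [isAmple_restrict_restrict,
    isAmple_restrict_congr L (image_morphismRestrict_preimage f U W.1)]
  exact h.2 ⟨_, W.2.image_of_isOpenImmersion U.ι⟩

/-- Relative ampleness is local on the base. -/
theorem isRelAmple_of_cover (f : X ⟶ Y) {L : X.Modules} {ι : Type u} (U : ι → Y.Opens)
    (hU : ⨆ i, U i = ⊤) (h : ∀ i, RelAmple.IsRelAmple (f ∣_ (U i)) (L.restrict (f ⁻¹ᵁ (U i)).ι)) :
    RelAmple.IsRelAmple f L := by
  haveI : QuasiCompact f := IsZariskiLocalAtTarget.of_iSup_eq_top (P := @QuasiCompact) U hU fun i ↦ (h i).1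
  have hamp : ∀ (i : ι) (W : Y.Opens), IsAffineOpen W → W ≤ U i → CohB1.IsAmple (L.restrict (f ⁻¹ᵁ W).ι) := by
    intro i W hW hWU
    obtain ⟨W', hW'⟩ : ∃ W' : (U i).toScheme.Opens, (U i).ι ''ᵁ W' = W :=
      ⟨(U i).ι ⁻¹ᵁ W, ((U i).ι.image_preimage_eq_opensRange_inf W).trans
        (by rw [Scheme.Opens.opensRange_ι]; exact inf_eq_right.mpr hWU)⟩
    subst hW'
    have := (h i).2 ⟨W', (U i).ι.isAffineOpen_iff_of_isOpenImmersion.mp hW⟩
    rwa [isAmple_restrict_restrict, isAmple_restrict_congr L (image_morphismRestrict_preimage f (U i) W')] at this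
  haveI : IsSeparated f := by
    refine IsZariskiLocalAtTarget.of_iSup_eq_top (P := @IsSeparated) U hU fun i ↦ ?_
    refine IsZariskiLocalAtTarget.of_iSup_eq_top (P := @IsSeparated)
      (fun V : (U i).toScheme.affineOpens ↦ V.1) (iSup_affineOpens_eq_top _) fun V ↦ ?_
    haveI := isSeparated_of_isAmple ((h i).2 V)
    infer_instance
  refine ⟨inferInstance, fun V ↦ ?_⟩
  haveI : IsAffine V.1 := V.2
  haveI : CompactSpace (f ⁻¹ᵁ V.1).toScheme :=
    isCompact_iff_compactSpace.mp (f.isCompact_preimage V.2.isCompact)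
  haveI : QuasiSeparatedSpace (f ⁻¹ᵁ V.1).toScheme :=
    quasiSeparatedSpace_of_quasiSeparated (f ∣_ V.1)
  set A := f ⁻¹ᵁ V.1 with hA
  have hloc : ∀ x : A.toScheme, ∃ r : Γ(A.toScheme, ⊤), x ∈ A.toScheme.basicOpen r ∧
      CohB1.IsAmple ((L.restrict A.ι).restrict (A.toScheme.basicOpen r).ι) := by
    intro x
    have hfx : f (A.ι x) ∈ V.1 := x.2
    obtain ⟨i, hi⟩ := Opens.mem_iSup.mp (hU.ge (Set.mem_univ (f (A.ι x)) : f (A.ι x) ∈ (⊤ : Y.Opens)))
    obtain ⟨a, haU, hxa⟩ := V.2.exists_basicOpen_le (V := U i) ⟨f (A.ι x), hi⟩ hfx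
    let r : Γ(A.toScheme, ⊤) := A.topIso.inv (f.app V.1 a)
    have himg : A.ι ''ᵁ A.toScheme.basicOpen r = f ⁻¹ᵁ Y.basicOpen a := by
      rw [Scheme.preimage_basicOpen, Scheme.image_basicOpen]
      simp only [r, Scheme.Opens.topIso, Scheme.Opens.ι_appIso, Functor.mapIso_inv, Iso.refl_inv]
      exact X.basicOpen_res_eq _ _
    refine ⟨r, ?_, ?_⟩
    · have : A.ι x ∈ A.ι ''ᵁ A.toScheme.basicOpen r := by rw [himg]; exact hxa
      obtain ⟨y, hy, hyx⟩ := this
      exact A.ι.isOpenEmbedding.injective hyx ▸ hy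
    · rw [isAmple_restrict_restrict, isAmple_restrict_congr L himg]
      exact hamp i _ (V.2.basicOpen a) haU
  refine ⟨isInvertible_of_forall_restrict fun x ↦ ?_, inferInstance, fun x ↦ ?_⟩
  · obtain ⟨r, hxr, hr⟩ := hloc x
    exact ⟨_, hxr, hr.1⟩
  · obtain ⟨r, hxr, hr⟩ := hloc x
    obtain ⟨n, s, hxs, hs⟩ := hr.2.2 ⟨x, hxr⟩
    have hM : PicF.IsInvertible (L.restrict A.ι) := isInvertible_of_forall_restrict fun y ↦ by
      obtain ⟨r', hy, hr'⟩ := hloc y
      exact ⟨_, hy, hr'.1⟩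
    obtain ⟨c, hc⟩ := exists_genLocus_of_basicOpen (TensorMod.isInvertible_tensorPow hM (n + 1)) rfl
      (s ≫ (TensorMod.restrictPowIso (A.toScheme.basicOpen r).ι (L.restrict A.ι) (n + 1)).symm.hom)
    rw [genLocus_comp_iso] at hc
    exact ⟨n, c, hc ▸ ⟨⟨x, hxr⟩, hxs, rfl⟩, hc ▸ hs.image_of_isOpenImmersion _⟩

theorem morphismRestrict_isQuasiAffine (g : X ⟶ Y) (hg : Mor2.IsQuasiAffine g) (U : Y.Opens) :
    Mor2.IsQuasiAffine (g ∣_ U) := by
  haveI := hg.1
  refine ⟨inferInstance, fun W hW ↦ ?_⟩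
  have e := (g ⁻¹ᵁ U).ι.isoImage ((g ∣_ U) ⁻¹ᵁ W)
  have h1 := hg.2 _ (hW.image_of_isOpenImmersion U.ι)
  rw [← image_morphismRestrict_preimage] at h1
  exact quasiAffine_of_iso e h1

/-- Pulling back along a quasi-affine morphism. -/
theorem isRelAmple_comp_of_isQuasiAffine {Z : Scheme.{u}} (g : X ⟶ Y) (f : Y ⟶ Z)
    (hg : Mor2.IsQuasiAffine g) {L : Y.Modules} (h : RelAmple.IsRelAmple f L) :
    RelAmple.IsRelAmple (g ≫ f) ((Scheme.Modules.pullback g).obj L) := by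
  haveI := hg.1
  haveI := h.1
  refine ⟨inferInstance, fun V ↦ ?_⟩
  exact isAmple_of_iso (TensorMod.pullbackRestrictIso g (f ⁻¹ᵁ V.1) L).symm
    (isAmple_pullback_of_isQuasiAffine _ (morphismRestrict_isQuasiAffine g hg _) (h.2 V))

/-- Pulling back along a topological embedding. -/
theorem isRelAmple_comp_of_isEmbedding {Z : Scheme.{u}} (g : X ⟶ Y) [QuasiCompact g] (f : Y ⟶ Z)
    (hg : Topology.IsEmbedding g) {L : Y.Modules} (h : RelAmple.IsRelAmple f L) :
    RelAmple.IsRelAmple (g ≫ f) ((Scheme.Modules.pullback g).obj L) := by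
  haveI := h.1
  refine ⟨inferInstance, fun V ↦ ?_⟩
  haveI : CompactSpace ((g ≫ f) ⁻¹ᵁ V.1).toScheme :=
    isCompact_iff_compactSpace.mp (g.isCompact_preimage (f.isCompact_preimage V.2.isCompact))
  refine isAmple_of_iso (TensorMod.pullbackRestrictIso g (f ⁻¹ᵁ V.1) L).symm
    (isAmple_pullback_of_isEmbedding _ ?_ (h.2 V))
  exact Eq.mpr (congrArg Topology.IsEmbedding (morphismRestrict_base g (f ⁻¹ᵁ V.1)))
    (hg.restrictPreimage _)

theorem isQuasiAffine_iff_isRelAmple (f : X ⟶ Y) [QuasiCompact f] :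
    Mor2.IsQuasiAffine f ↔ RelAmple.IsRelAmple f (Coh.structureModule X) := by
  refine ⟨fun h ↦ ⟨inferInstance, fun V ↦ ?_⟩, fun h ↦ ⟨inferInstance, fun V hV ↦ ?_⟩⟩
  · exact isAmple_of_iso (Scheme.Modules.restrictUnitIso _).symm (isQuasiAffine_iff_isAmple.mp (h.2 V.1 V.2))
  · exact isQuasiAffine_iff_isAmple.mpr (isAmple_of_iso (Scheme.Modules.restrictUnitIso _) (h.2 ⟨V, hV⟩))

end Groth.Agent.GenLocus
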