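import Groth.Agent.GenLocus.Ops

/-!
# Powers of frames; sections of powers with prescribed locus
-/

set_option autoImplicit false
set_option backward.isDefEq.respectTransparency false
set_option backward.isDefEq.respectTransparency.types false

noncomputable section

universe u

open CategoryTheory Limits AlgebraicGeometry Opposite TopologicalSpace
open Groth.Agent.QCohBase
open scoped TensorProduct

namespace Groth.Agent.GenLocus

variable {X : Scheme.{u}} {L : X.Modules}

/-- Powers of a local section. -/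
def framePow {U : X.Opens} (e : Γ(L, U)) : (n : ℕ) → Γ(CohB1.tensorPow L n, U)
  | 0 => sect (𝟙 (Coh.structureModule X)) U
  | n + 1 => SecTwist.tmul (CohB1.tensorPow L n) L U (framePow e n) e

lemma framePow_res {U V : X.Opens} (h : V ≤ U) (e : Γ(L, U)) :
    ∀ n : ℕ, mres (CohB1.tensorPow L n) h (framePow e n) = framePow (mres L h e) n
  | 0 => mres_sect _ h
  | n + 1 => (SecTwist.map_tmul _ _ (homOfLE h) _ _).trans
      (congrArg (fun q ↦ SecTwist.tmul (CohB1.tensorPow L n) L V q (mres L h e)) (framePow_res h e n))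

lemma IsFrame.framePow {U : X.Opens} {e : Γ(L, U)} (he : IsFrame L e) :
    ∀ n : ℕ, IsFrame (CohB1.tensorPow L n) (GenLocus.framePow e n)
  | 0 => (isIso_restrict_iff (𝟙 (Coh.structureModule X)) U).mp
      (by rw [CategoryTheory.Functor.map_id]; infer_instance)
  | n + 1 => (IsFrame.framePow he n).tmul he

lemma framePow_smul {U : X.Opens} (u : Γ(X, U)) (e : Γ(L, U)) :
    ∀ n : ℕ, GenLocus.framePow (u • e) n = u ^ n • GenLocus.framePow e n
  | 0 => by rw [pow_zero, one_smul]; rfl
  | n + 1 => by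
    show SecTwist.tmul _ _ U (GenLocus.framePow (u • e) n) (u • e) = _
    rw [framePow_smul u e n, tmul_smul_smul, pow_succ]
    rfl

/-- The morphism out of the structure sheaf given by a global section. -/
def homOfSection (M : X.Modules) (τ : Γ(M, ⊤)) : Coh.structureModule X ⟶ M :=
  M.unitHomEquiv.symm (PresheafOfModules.sectionsMk (fun U ↦ mres M (le_top : U.unop ≤ ⊤) τ)
    fun U V f ↦ mres_mres M (le_top : U.unop ≤ ⊤) f.unop.le τ)

lemma sect_homOfSection (M : X.Modules) (τ : Γ(M, ⊤)) (U : X.Opens) :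
    sect (homOfSection M τ) U = mres M le_top τ :=
  congrArg (fun σ ↦ σ.val (op U)) (M.unitHomEquiv.apply_symm_apply _)

lemma IsFrame.of_cover {U : X.Opens} {e : Γ(L, U)} {ι : Type u} (V : ι → X.Opens)
    (hV : ∀ i, V i ≤ U) (hcov : U ≤ iSup V) (h : ∀ i, IsFrame L (QCohBase.mres L (hV i) e)) :
    IsFrame L e := by
  intro W hW
  have hWi : ∀ i, Function.Bijective fun r : Γ(X, W ⊓ V i) ↦
      r • QCohBase.mres L ((inf_le_left : W ⊓ V i ≤ W).trans hW) e := fun i ↦ by
    have := h i (W ⊓ V i) inf_le_right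
    simpa only [mres_mres] using this
  have hcovW : W ≤ ⨆ i, W ⊓ V i := fun x hx ↦ by
    obtain ⟨i, hi⟩ := Opens.mem_iSup.mp (hcov (hW hx))
    exact Opens.mem_iSup.mpr ⟨i, hx, hi⟩
  refine ⟨fun r r' hr ↦ ?_, fun y ↦ ?_⟩
  · refine TopCat.Sheaf.eq_of_locally_eq' X.sheaf (fun i ↦ W ⊓ V i) W (fun i ↦ homOfLE inf_le_left)
      hcovW r r' fun i ↦ (hWi i).1 ?_
    have := congrArg (QCohBase.mres L (inf_le_left : W ⊓ V i ≤ W)) hr
    simp only [mres_smul, mres_mres] at this
    exact this
  · choose r hr using fun i ↦ (hWi i).2 (QCohBase.mres L inf_le_left y)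
    obtain ⟨t, ht, -⟩ := TopCat.Sheaf.existsUnique_gluing' X.sheaf (fun i ↦ W ⊓ V i) W
      (fun i ↦ homOfLE inf_le_left) hcovW r fun i j ↦ by
        refine (h i ((W ⊓ V i) ⊓ (W ⊓ V j)) (inf_le_left.trans inf_le_right)).1 ?_
        have e1 := congrArg (QCohBase.mres L (inf_le_left : (W ⊓ V i) ⊓ (W ⊓ V j) ≤ W ⊓ V i)) (hr i)
        have e2 := congrArg (QCohBase.mres L (inf_le_right : (W ⊓ V i) ⊓ (W ⊓ V j) ≤ W ⊓ V j)) (hr j)
        simp only [mres_smul, mres_mres] at e1 e2 ⊢
        exact e1.trans e2.symm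
    refine ⟨t, eq_of_iSup_le L _ (fun i ↦ inf_le_left) hcovW _ _ fun i ↦ ?_⟩
    simp only [mres_smul, mres_mres]
    rw [show ores (inf_le_left : W ⊓ V i ≤ W) t = r i from ht i]
    exact hr i

/-- A section generates on its locus of generation. -/
theorem isFrame_sect_genLocus (s : Coh.structureModule X ⟶ L) :
    IsFrame L (sect s (CohB1.genLocus L s)) := by
  choose U hxU hU using fun x : CohB1.genLocus L s ↦ (mem_genLocus_iff s).mp x.2
  refine IsFrame.of_cover (fun x ↦ U x ⊓ CohB1.genLocus L s) (fun x ↦ inf_le_right)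
    (fun x hx ↦ Opens.mem_iSup.mpr ⟨⟨x, hx⟩, hxU _, hx⟩) fun x ↦ ?_
  have := (hU x).res (inf_le_left : U x ⊓ CohB1.genLocus L s ≤ U x)
  rw [mres_sect] at this
  rwa [mres_sect]

/-- The key extension lemma: a function on `X_s` times a power of `s` extends. -/
theorem exists_extend (hL : PicF.IsInvertible L) [CompactSpace X] [QuasiSeparatedSpace X]
    (s : Coh.structureModule X ⟶ L) (f : Γ(X, CohB1.genLocus L s)) :
    ∃ (n : ℕ) (c : Coh.structureModule X ⟶ CohB1.tensorPow L n),
      sect c (CohB1.genLocus L s) = f • framePow (sect s (CohB1.genLocus L s)) n := by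
  classical
  choose A hA hxA _ e he using fun x : X ↦ exists_isFrame hL (W := ⊤) (x := x) trivial
  obtain ⟨t, ht⟩ := CompactSpace.elim_nhds_subcover (fun x ↦ (A x : Set X))
    (fun x ↦ (A x).2.mem_nhds (hxA x))
  have hcov : (⊤ : X.Opens) ≤ ⨆ i : t, A i.1 := fun x _ ↦ by
    have : x ∈ ⋃ i ∈ t, (A i : Set X) := by rw [ht]; trivial
    obtain ⟨i, hi, hxi⟩ := Set.mem_iUnion₂.mp this
    exact Opens.mem_iSup.mpr ⟨⟨i, hi⟩, hxi⟩
  choose g hg hgW using fun i : t ↦ genLocus_inf_frame s (he i.1)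
  have hD : ∀ i : t, X.basicOpen (g i) ≤ CohB1.genLocus L s := fun i ↦ (hgW i).ge.trans inf_le_left
  -- lifting the function
  have hlift : ∀ i : t, ∀ᶠ k in Filter.atTop, ∃ a : Γ(X, A i.1),
      ores (X.basicOpen_le (g i)) a = ores (X.basicOpen_le (g i)) (g i) ^ k * ores (hD i) f := fun i ↦ by
    have := (hA i.1).isLocalization_basicOpen (g i)
    obtain ⟨⟨a, ⟨_, k, rfl⟩⟩, ha⟩ := IsLocalization.surj (Submonoid.powers (g i)) (ores (hD i) f)
    refine Filter.eventually_atTop.2 ⟨k, fun m hm ↦ ⟨g i ^ (m - k) * a, ?_⟩⟩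
    have ha' : ores (hD i) f * ores (X.basicOpen_le (g i)) (g i) ^ k = ores (X.basicOpen_le (g i)) a := by
      rw [← map_pow]; exact ha
    rw [map_mul, map_pow, ← ha']
    rw [← mul_assoc, mul_comm (_ ^ (m - k)), mul_assoc, ← pow_add, Nat.sub_add_cancel hm, mul_comm]
  obtain ⟨k, hk⟩ := (Filter.eventually_all.2 hlift).exists
  choose a ha using hk
  -- change of frame
  let I : t → t → X.Opens := fun i j ↦ A i.1 ⊓ A j.1
  have hIi : ∀ i j, I i j ≤ A i.1 := fun i j ↦ inf_le_left
  have hIj : ∀ i j, I i j ≤ A j.1 := fun i j ↦ inf_le_right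
  choose v hv using fun i j : t ↦ ((he i.1).res (hIi i j)).bijective.2 (mres L (hIj i j) (e j.1))
  -- `e j = v • e i`
  have hgv : ∀ i j, ores (hIi i j) (g i) = ores (hIj i j) (g j) * v i j := fun i j ↦ by
    refine ((he i.1).res (hIi i j)).bijective.1 ?_
    simp only [mul_smul, hv]
    rw [← mres_smul, ← mres_smul, hg, hg, mres_sect, mres_sect]
  let d : ∀ i j, Γ(X, I i j) := fun i j ↦ ores (hIi i j) (a i) - v i j ^ k * ores (hIj i j) (a j)
  have hd : ∀ i j, ∀ᶠ m in Filter.atTop, ores (hIi i j) (g i) ^ m * d i j = 0 := fun i j ↦ by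
    have hc : IsCompact ((A i.1 : Set X) ∩ (A j.1 : Set X)) :=
      QuasiSeparatedSpace.inter_isCompact (A i.1 : Set X) (A j.1 : Set X) (A i.1).isOpen (hA i.1).isCompact (A j.1).isOpen (hA j.1).isCompact
    obtain ⟨m, hm⟩ := exists_pow_mul_eq_zero_of_res_basicOpen_eq_zero_of_isCompact X hc (d i j)
      (ores (hIi i j) (g i)) (by
        set D := X.basicOpen (ores (hIi i j) (g i)) with hDdef
        have hle : D ≤ I i j := X.basicOpen_le _
        have hDi : D ≤ X.basicOpen (g i) := by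
          rw [hDdef, basicOpen_ores]; exact inf_le_right
        have hDj : D ≤ X.basicOpen (g j) := fun x hx ↦ by
          have h1 : x ∈ (CohB1.genLocus L s) ⊓ A j.1 := ⟨hD i (hDi hx), hIj i j (hle hx)⟩
          rwa [hgW j] at h1
        show ores hle (d i j) = 0
        have h1 : ores (hle.trans (hIi i j)) (a i) =
            ores (hle.trans (hIi i j)) (g i) ^ k * ores (hDi.trans (hD i)) f := by
          have := congrArg (ores hDi) (ha i); simpa only [map_mul, map_pow, ores_ores] using this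
        have h2 : ores (hle.trans (hIj i j)) (a j) =
            ores (hle.trans (hIj i j)) (g j) ^ k * ores (hDi.trans (hD i)) f := by
          have := congrArg (ores hDj) (ha j); simpa only [map_mul, map_pow, ores_ores] using this
        have h3 : ores (hle.trans (hIi i j)) (g i) = ores (hle.trans (hIj i j)) (g j) * ores hle (v i j) := by
          have := congrArg (ores hle) (hgv i j); simpa only [map_mul, ores_ores] using this
        simp only [d, map_sub, map_mul, map_pow, ores_ores, h1, h2, h3]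
        ring)
    refine Filter.eventually_atTop.2 ⟨m, fun m' hm' ↦ ?_⟩
    rw [← Nat.sub_add_cancel hm', pow_add, mul_assoc, hm, mul_zero]
  obtain ⟨m, hm⟩ := (Filter.eventually_all.2 fun z : t × t ↦ hd z.1 z.2).exists
  let N := m + k
  let σ : ∀ i : t, Γ(CohB1.tensorPow L N, A i.1) := fun i ↦ (g i ^ m * a i) • GenLocus.framePow (e i.1) N
  have hσ : ∀ i j : t, mres _ (hIi i j) (σ i) = mres _ (hIj i j) (σ j) := fun i j ↦ by
    simp only [σ, mres_smul, framePow_res, map_mul, map_pow]
    rw [← hv i j, framePow_smul, smul_smul]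
    congr 1
    have := hm (i, j)
    simp only [d, mul_sub, sub_eq_zero] at this
    rw [this, hgv i j, mul_pow, show N = m + k from rfl, pow_add]
    ring
  obtain ⟨τ, hτ, -⟩ := TopCat.Sheaf.existsUnique_gluing'
    ⟨(CohB1.tensorPow L N).presheaf, (CohB1.tensorPow L N).isSheaf⟩ (fun i : t ↦ A i.1) ⊤
    (fun i ↦ homOfLE le_top) hcov σ hσ
  let c := homOfSection (CohB1.tensorPow L N) τ
  refine ⟨N, c, eq_of_iSup_le (CohB1.tensorPow L N) (fun i : t ↦ X.basicOpen (g i)) hD ?_ _ _ fun i ↦ ?_⟩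
  · intro x hx
    obtain ⟨i, hi⟩ := Opens.mem_iSup.mp (hcov (Set.mem_univ x : x ∈ (⊤ : X.Opens)))
    exact Opens.mem_iSup.mpr ⟨i, (hgW i).le ⟨hx, hi⟩⟩
  have h1 : sect c (A i.1) = σ i := (sect_homOfSection _ τ _).trans (hτ i)
  rw [mres_sect, ← mres_sect c (X.basicOpen_le (g i)), h1]
  simp only [σ, mres_smul, framePow_res, mres_sect, map_mul, map_pow, ha i]
  rw [← mres_sect s (X.basicOpen_le (g i)), ← hg i, mres_smul, framePow_smul, smul_smul]
  congr 1
  rw [show N = m + k from rfl, pow_add]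
  ring

/-- Basic opens of affine loci of generation are loci of generation. -/
theorem exists_genLocus_eq_basicOpen (hL : PicF.IsInvertible L) [CompactSpace X] [QuasiSeparatedSpace X]
    {k : ℕ} (s : Coh.structureModule X ⟶ CohB1.tensorPow L (k + 1))
    (f : Γ(X, CohB1.genLocus _ s)) :
    ∃ (n : ℕ) (c : Coh.structureModule X ⟶ CohB1.tensorPow L (n + 1)),
      CohB1.genLocus _ c = X.basicOpen f := by
  have hLk := TensorMod.isInvertible_tensorPow hL (k + 1)
  obtain ⟨n, c, hc⟩ := exists_extend hLk s f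
  have hframe : IsFrame _ (sect s (CohB1.genLocus _ s)) := isFrame_sect_genLocus s
  have hloc : CohB1.genLocus _ c ⊓ (CohB1.genLocus _ s) = X.basicOpen f :=
    genLocus_inf_eq_basicOpen c (hframe.framePow n) hc.symm
  obtain ⟨j, hj⟩ : ∃ j, (k + 1) * (n + 1) = j + 1 := ⟨(k + 1) * (n + 1) - 1, by
    have : 0 < (k + 1) * (n + 1) := Nat.mul_pos k.succ_pos n.succ_pos
    omega⟩
  have key : CohB1.genLocus (CohB1.tensorPow (CohB1.tensorPow L (k + 1)) (n + 1)) (SecTwist.tmulHom c s) =
      X.basicOpen f := (genLocus_tmulHom (TensorMod.isInvertible_tensorPow hLk n) hLk c s).trans hloc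
  refine ⟨j, (SecTwist.tmulHom c s ≫ (TensorMod.tensorPowMulIso L (k + 1) (n + 1)).hom) ≫
    (eqToIso (congrArg (CohB1.tensorPow L) hj)).hom, ?_⟩
  rw [genLocus_comp_iso]
  exact (genLocus_comp_iso _ _).trans key

end Groth.Agent.GenLocus
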