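import Groth.Agent.GenLocus.FlatDescent
import Groth.Agent.FpqcDescent.Specialization
import Mathlib.AlgebraicGeometry.ValuativeCriterion
import Mathlib.RingTheory.Valuation.LocalSubring

/-!
# Loci of generation over universally closed morphisms are affine
-/

set_option autoImplicit false
set_option backward.isDefEq.respectTransparency false
set_option backward.isDefEq.respectTransparency.types false

noncomputable section

universe u

open CategoryTheory Limits AlgebraicGeometry Opposite TopologicalSpace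
open Groth.Agent.QCohBase

namespace Groth.Agent.GenLocus

/-- A valuation subring centred at a prime. -/
lemma exists_valuationSubring_centred {B K : Type u} [CommRing B] [Field K] (ψ : B →+* K) (p : Ideal B)
    [p.IsPrime] (hp : RingHom.ker ψ ≤ p) :
    ∃ (V : ValuationSubring K) (φ : B →+* V), V.subtype.comp φ = ψ ∧
      Ideal.comap φ (IsLocalRing.maximalIdeal V) = p := by
  let A := ψ.range
  have hsurj : Function.Surjective ψ.rangeRestrict := ψ.rangeRestrict_surjective
  have hker : RingHom.ker ψ.rangeRestrict ≤ p := (RingHom.ker_rangeRestrict ψ).le.trans hp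
  let P : Ideal A := Ideal.map ψ.rangeRestrict p
  haveI : P.IsPrime := Ideal.map_isPrime_of_surjective hsurj hker
  have hmem : ∀ b, ψ.rangeRestrict b ∈ P ↔ b ∈ p := fun b ↦ by
    rw [← Ideal.mem_comap, Ideal.comap_map_of_surjective' _ hsurj, sup_eq_left.mpr hker]
  obtain ⟨V, hV⟩ := (LocalSubring.ofPrime A P).exists_le_valuationSubring
  have hAV : A ≤ V.toSubring := (LocalSubring.le_ofPrime A P).trans hV.1
  let φ : B →+* V := (Subring.inclusion hAV).comp ψ.rangeRestrict
  refine ⟨V, φ, rfl, ?_⟩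
  haveI := hV.2
  ext b
  rw [Ideal.mem_comap, IsLocalRing.mem_maximalIdeal, mem_nonunits_iff]
  have key : IsUnit (algebraMap A (LocalSubring.ofPrime A P).toSubring (ψ.rangeRestrict b)) ↔ b ∉ p :=
    (IsLocalization.AtPrime.isUnit_to_map_iff (LocalSubring.ofPrime A P).toSubring P _).trans
      (not_congr (hmem b))
  refine ⟨fun h ↦ ?_, fun h hu ↦ ?_⟩
  · by_contra hb
    exact h ((key.mpr hb).map (Subring.inclusion hV.1))
  · exact key.mp (isUnit_of_map_unit (Subring.inclusion hV.1) _ hu) h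

variable {X Y : Scheme.{u}}

lemma appTop_topIso_inv {U : X.Opens} {Z : Scheme.{u}} (r : Z ⟶ U.toScheme) (β : Γ(X, U))
    (h : (⊤ : Z.Opens) ≤ (r ≫ U.ι) ⁻¹ᵁ U) :
    r.appTop (U.topIso.inv β) = (r ≫ U.ι).appLE U ⊤ h β := by
  have htop : (⊤ : U.toScheme.Opens) ≤ U.ι ⁻¹ᵁ U := fun z _ ↦ z.2
  have h2 : U.ι.appLE U ⊤ htop = U.topIso.inv := by
    rw [Scheme.Hom.appLE, Scheme.Opens.ι_app, Scheme.Opens.toScheme_presheaf_map, ← Functor.map_comp]
    rfl
  have h3 : (r ≫ U.ι).appLE U ⊤ h = U.ι.appLE U ⊤ htop ≫ r.appLE ⊤ ⊤ le_top :=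
    (Scheme.Hom.appLE_comp_appLE r U.ι U ⊤ ⊤ htop le_top).symm
  rw [h3, h2, CommRingCat.comp_apply, Scheme.Hom.appTop, Scheme.Hom.app_eq_appLE]
  rfl

set_option maxHeartbeats 1600000 in
/-- Over an affine base, loci of generation of powers of an ample module are affine when the
structure morphism is universally closed. -/
theorem isAffineOpen_genLocus_of_universallyClosed [IsAffine Y] (f : X ⟶ Y) [UniversallyClosed f]
    {L : X.Modules} (hL : CohB1.IsAmple L) {n : ℕ}
    (s : Coh.structureModule X ⟶ CohB1.tensorPow L (n + 1)) :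
    IsAffineOpen (CohB1.genLocus _ s) := by
  set U := CohB1.genLocus _ s with hUdef
  haveI : U.toScheme.IsQuasiAffine := isQuasiAffine_genLocus hL s
  suffices hsurj : Surjective U.toScheme.toSpecΓ by
    haveI : IsIso U.toScheme.toSpecΓ :=
      (isIso_iff_isOpenImmersion_and_surjective _).mpr ⟨inferInstance, hsurj⟩
    exact IsAffine.of_isIso U.toScheme.toSpecΓ
  refine ⟨fun P ↦ ?_⟩
  obtain ⟨u, hu⟩ := Groth.Agent.FpqcDescent.exists_specializes_of_mem_closure_range U.toScheme.toSpecΓ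
    (x := P) (by rw [(U.toScheme.toSpecΓ.denseRange).closure_range]; trivial)
  let K := U.toScheme.residueField u
  let r := U.toScheme.fromSpecResidueField u
  let ψ : Γ(U.toScheme, ⊤) ⟶ K := Spec.preimage (r ≫ U.toScheme.toSpecΓ)
  have hψ : Spec.map ψ = r ≫ U.toScheme.toSpecΓ := Spec.map_preimage _
  have hker : RingHom.ker ψ.hom ≤ P.asIdeal := by
    have h1 : (Spec.map ψ) (IsLocalRing.closedPoint K) = U.toScheme.toSpecΓ u := by
      rw [hψ, Scheme.Hom.comp_apply, Scheme.fromSpecResidueField_apply]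
    have h2 : (PrimeSpectrum.comap ψ.hom (IsLocalRing.closedPoint K)).asIdeal ≤ P.asIdeal :=
      (PrimeSpectrum.le_iff_specializes _ _).mpr (show (Spec.map ψ) (IsLocalRing.closedPoint K) ⤳ P by rw [h1]; exact hu)
    refine le_trans (fun b hb ↦ ?_) h2
    show ψ.hom b ∈ IsLocalRing.maximalIdeal K
    rw [RingHom.mem_ker.mp hb]
    exact Ideal.zero_mem _
  obtain ⟨V, φ, hφ, hφP⟩ := exists_valuationSubring_centred ψ.hom P.asIdeal hker
  let e : Spec (.of K) ⟶ Spec (.of V) := Spec.map (CommRingCat.ofHom (algebraMap V K))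
  let j : Spec (.of V) ⟶ Spec Γ(U.toScheme, ⊤) := Spec.map (CommRingCat.ofHom φ)
  have hej : e ≫ j = r ≫ U.toScheme.toSpecΓ := by
    rw [← hψ, ← Spec.map_comp]
    congr 1
    ext b
    exact RingHom.congr_fun hφ b
  let sq : ValuativeCommSq f :=
    { R := V
      K := K
      i₁ := r ≫ U.ι
      i₂ := j ≫ Spec.map (U.ι ≫ f).appTop ≫ Y.isoSpec.inv
      commSq := ⟨by
        show (r ≫ U.ι) ≫ f = e ≫ _
        rw [← Category.assoc e, hej, Category.assoc, Category.assoc, ← Scheme.toSpecΓ_naturality_assoc,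
          Scheme.toSpecΓ_isoSpec_inv, Category.comp_id]⟩ }
  have hex : ValuativeCriterion.Existence f := by
    have h : UniversallyClosed f := inferInstance
    rw [UniversallyClosed.eq_valuativeCriterion] at h
    exact h.1
  obtain ⟨⟨ℓ, hℓ₁, hℓ₂⟩⟩ := (hex sq).exists_lift
  let x' := ℓ (IsLocalRing.closedPoint V)
  have hx'U : x' ∈ U := by
    obtain ⟨m, t, hxt, -⟩ := hL.2.2 x'
    obtain ⟨a, ha⟩ := exists_same_genLocus hL.1 (Nat.mul_pos n.succ_pos m.succ_pos) (Dvd.intro _ rfl) s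
    obtain ⟨b, hb⟩ := exists_same_genLocus hL.1 (Nat.mul_pos n.succ_pos m.succ_pos) (Dvd.intro_left _ rfl) t
    rw [← hUdef] at ha
    obtain ⟨T, hT⟩ : ∃ T, T = CohB1.genLocus _ t := ⟨_, rfl⟩
    rw [← hT] at hxt hb
    have hfT : IsFrame _ (sect b T) := by have := isFrame_sect_genLocus b; rwa [hb] at this
    have hfU : IsFrame _ (sect a U) := by have := isFrame_sect_genLocus a; rwa [ha] at this
    obtain ⟨α, hα, hαD⟩ := genLocus_inf_frame a hfT
    obtain ⟨β, hβ, -⟩ := genLocus_inf_frame b hfU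
    have hαβ : ores (inf_le_right : U ⊓ T ≤ T) α * ores (inf_le_left : U ⊓ T ≤ U) β = 1 := by
      refine (hfU.res (inf_le_left : U ⊓ T ≤ U)).bijective.1 ?_
      have e1 := congrArg (mres _ (inf_le_right : U ⊓ T ≤ T)) hα
      have e2 := congrArg (mres _ (inf_le_left : U ⊓ T ≤ U)) hβ
      simp only [mres_smul, mres_sect] at e1 e2 ⊢
      rw [one_smul, mul_smul, e2, e1]
    by_contra hnot
    have hℓT : ℓ ⁻¹ᵁ T = ⊤ := IsLocalRing.closed_point_mem_iff.mp hxt
    have hK : ∀ W : X.Opens, (∀ z, (r ≫ U.ι) z ∈ W) → (⊤ : (Spec (CommRingCat.of K)).Opens) ≤ (r ≫ U.ι) ⁻¹ᵁ W :=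
      fun W h z _ ↦ h z
    have hUT : (⊤ : (Spec (CommRingCat.of K)).Opens) ≤ (r ≫ U.ι) ⁻¹ᵁ (U ⊓ T) := hK _ fun z ↦ by
      refine ⟨(r z).2, ?_⟩
      show (r ≫ U.ι) z ∈ T
      rw [show r ≫ U.ι = e ≫ ℓ from hℓ₁.symm, Scheme.Hom.comp_apply]
      exact hℓT.ge (Set.mem_univ (Spec.map (CommRingCat.ofHom (algebraMap V K)) z))
    let αV := ℓ.appLE T ⊤ hℓT.ge α
    let βB : Γ(U.toScheme, ⊤) := U.topIso.inv β
    let βV := j.appTop ((Scheme.ΓSpecIso Γ(U.toScheme, ⊤)).inv βB)
    have hrel : e.appTop (αV * βV) = 1 := by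
      have h0 := congrArg ((r ≫ U.ι).appLE (U ⊓ T) ⊤ hUT) hαβ
      rw [map_mul, map_one] at h0
      rw [map_mul]
      refine Eq.trans (congrArg₂ (· * ·) ?_ ?_) h0
      · show e.appTop (ℓ.appLE T ⊤ hℓT.ge α) = (r ≫ U.ι).appLE (U ⊓ T) ⊤ hUT (ores inf_le_right α)
        rw [ores, ← CommRingCat.comp_apply, ← CommRingCat.comp_apply, Scheme.Hom.map_appLE,
          Scheme.Hom.appTop, Scheme.Hom.app_eq_appLE, Scheme.Hom.appLE_comp_appLE]
        simp only [show e ≫ ℓ = r ≫ U.ι from hℓ₁]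
        rfl
      · show e.appTop (j.appTop _) = (r ≫ U.ι).appLE (U ⊓ T) ⊤ hUT (ores inf_le_left β)
        rw [← CommRingCat.comp_apply, ← Scheme.Hom.comp_appTop, hej, Scheme.Hom.comp_appTop,
          CommRingCat.comp_apply, Scheme.toSpecΓ_appTop, ← CommRingCat.comp_apply (Scheme.ΓSpecIso _).inv,
          Iso.inv_hom_id, CommRingCat.id_apply, ores, ← CommRingCat.comp_apply (X.presheaf.map _),
          Scheme.Hom.map_appLE]
        exact appTop_topIso_inv r β (hUT.trans ((r ≫ U.ι).preimage_mono inf_le_left))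
    have hinj : Function.Injective e.appTop := by
      have h1 := (Scheme.ΓSpecIso_naturality (CommRingCat.ofHom (algebraMap V K)))
      intro p q hpq
      apply (ConcreteCategory.bijective_of_isIso (Scheme.ΓSpecIso (CommRingCat.of V)).hom).1
      apply FaithfulSMul.algebraMap_injective V K
      have hp := ConcreteCategory.congr_hom h1 p
      have hq := ConcreteCategory.congr_hom h1 q
      simp only [CommRingCat.comp_apply] at hp hq
      exact hp.symm.trans ((congrArg _ hpq).trans hq)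
    have hunit : IsUnit αV := IsUnit.of_mul_eq_one βV (hinj (hrel.trans (map_one _).symm))
    refine hnot ?_
    have hmem : IsLocalRing.closedPoint V ∈ (Spec (CommRingCat.of V)).basicOpen αV := by
      rw [(Spec (CommRingCat.of V)).basicOpen_of_isUnit hunit]; trivial
    rw [show (Spec (CommRingCat.of V)).basicOpen αV = ⊤ ⊓ ℓ ⁻¹ᵁ X.basicOpen α from
      Scheme.basicOpen_appLE ℓ ⊤ T hℓT.ge α, ← hαD, ha] at hmem
    exact hmem.2.1
  have hℓU : Set.range ℓ ⊆ Set.range U.ι := by
    rw [Scheme.Opens.range_ι]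
    rintro _ ⟨z, rfl⟩
    exact (IsLocalRing.closed_point_mem_iff.mp (show IsLocalRing.closedPoint V ∈ ℓ ⁻¹ᵁ U from hx'U)).ge
      (Set.mem_univ z)
  let ℓ' := IsOpenImmersion.lift U.ι ℓ hℓU
  have heℓ : e ≫ ℓ' = r := by
    rw [← cancel_mono U.ι, Category.assoc, IsOpenImmersion.lift_fac]
    exact hℓ₁
  have hjℓ : ℓ' ≫ U.toScheme.toSpecΓ = j := by
    obtain ⟨c, hc⟩ := Spec.map_surjective (ℓ' ≫ U.toScheme.toSpecΓ)
    rw [← hc]
    refine congrArg Spec.map ?_
    have h1 : e ≫ Spec.map c = e ≫ j := by rw [hc, reassoc_of% heℓ, hej]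
    have h2 := Spec.map_injective ((Spec.map_comp _ _).trans (h1.trans (Spec.map_comp _ _).symm))
    ext b
    exact congrArg Subtype.val (FaithfulSMul.algebraMap_injective V K (ConcreteCategory.congr_hom h2 b))
  refine ⟨ℓ' (IsLocalRing.closedPoint V), ?_⟩
  rw [← Scheme.Hom.comp_apply, hjℓ]
  exact PrimeSpectrum.ext hφP

/-- For a universally closed morphism with relatively ample module, loci of generation are affine
over the base. -/
theorem isAffineHom_genLocus_of_universallyClosed (f : X ⟶ Y) [UniversallyClosed f] {L : X.Modules}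
    (hinv : PicF.IsInvertible L) (hL : RelAmple.IsRelAmple f L) (s : Coh.structureModule X ⟶ L) :
    IsAffineHom ((CohB1.genLocus L s).ι ≫ f) := by
  refine isAffineHom_of_forall_exists_isAffineOpen _ fun y ↦ ?_
  obtain ⟨V, hV, hyV, -⟩ := Opens.isBasis_iff_nbhd.1 Y.isBasis_affineOpens (show y ∈ (⊤ : Y.Opens) from trivial)
  refine ⟨V, hyV, hV, ?_⟩
  haveI : IsAffine (Scheme.Opens.toScheme V) := hV
  set A := f ⁻¹ᵁ V
  let c := pullHom A.ι s ≫ ((Scheme.Modules.restrictFunctorIsoPullback A.ι).symm.app L).hom ≫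
    (TensorMod.tensorPowOneIso (L.restrict A.ι)).symm.hom
  have hc : CohB1.genLocus _ c = A.ι ⁻¹ᵁ CohB1.genLocus L s := by
    rw [show c = (pullHom A.ι s ≫ ((Scheme.Modules.restrictFunctorIsoPullback A.ι).symm.app L).hom) ≫
      (TensorMod.tensorPowOneIso (L.restrict A.ι)).symm.hom from (Category.assoc _ _ _).symm,
      genLocus_comp_iso, genLocus_comp_iso, genLocus_pullHom A.ι hinv s]
  have h1 := (isAffineOpen_genLocus_of_universallyClosed (n := 0) (f ∣_ V) (hL.2 ⟨V, hV⟩) c).image_of_isOpenImmersion A.ι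
  rw [hc, Scheme.Hom.image_preimage_eq_opensRange_inf, Scheme.Opens.opensRange_ι] at h1
  rw [← (CohB1.genLocus L s).ι.isAffineOpen_iff_of_isOpenImmersion, Scheme.Hom.comp_preimage,
    Scheme.Hom.image_preimage_eq_opensRange_inf, Scheme.Opens.opensRange_ι, inf_comm]
  exact h1

theorem isInvertible_of_isRelAmple (f : X ⟶ Y) {L : X.Modules} (hL : RelAmple.IsRelAmple f L) :
    PicF.IsInvertible L := by
  refine isInvertible_of_forall_restrict fun x ↦ ?_
  obtain ⟨V, hV, hyV, -⟩ := Opens.isBasis_iff_nbhd.1 Y.isBasis_affineOpens (show f x ∈ (⊤ : Y.Opens) from trivial)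
  exact ⟨f ⁻¹ᵁ V, hyV, (hL.2 ⟨V, hV⟩).1⟩

end Groth.Agent.GenLocus
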