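import Groth.Agent.QCohBase.Localization
import Groth.Agent.TensorMod.Invertible
import Groth.Prelude.Def_SecTwist

/-!
# Sections of invertible modules and their loci of generation
-/

set_option autoImplicit false
set_option backward.isDefEq.respectTransparency false
set_option backward.isDefEq.respectTransparency.types false

noncomputable section

universe u

open CategoryTheory Limits AlgebraicGeometry Opposite TopologicalSpace
open Groth.Agent.QCohBase

namespace Groth.Agent.GenLocus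

variable {X : Scheme.{u}}

/-- The value of a global section on an open. -/
abbrev sect {L : X.Modules} (s : Coh.structureModule X ⟶ L) (U : X.Opens) : Γ(L, U) :=
  SecTwist.val s U

lemma mres_sect {L : X.Modules} (s : Coh.structureModule X ⟶ L) {U V : X.Opens} (h : V ≤ U) :
    mres L h (sect s U) = sect s V :=
  SecTwist.map_val s (homOfLE h)

lemma app_eq_smul {L : X.Modules} (s : Coh.structureModule X ⟶ L) (U : X.Opens) (r : Γ(X, U)) :
    s.app U r = r • sect s U :=
  let r' : X.ringCatSheaf.obj.obj (op U) := r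
  (congrArg (s.val.app (op U)) (mul_one r').symm).trans
    (map_smul (s.val.app (op U)).hom r' (1 : X.ringCatSheaf.obj.obj (op U)))

/-- A section generating freely on every smaller open. -/
def IsFrame (L : X.Modules) {U : X.Opens} (e : Γ(L, U)) : Prop :=
  ∀ (V : X.Opens) (h : V ≤ U), Function.Bijective fun r : Γ(X, V) ↦ r • mres L h e

lemma IsFrame.res {L : X.Modules} {U V : X.Opens} {e : Γ(L, U)} (he : IsFrame L e) (h : V ≤ U) :
    IsFrame L (mres L h e) := fun W hW ↦ by
  simp only [mres_mres]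
  exact he W (hW.trans h)

lemma IsFrame.bijective {L : X.Modules} {U : X.Opens} {e : Γ(L, U)} (he : IsFrame L e) :
    Function.Bijective fun r : Γ(X, U) ↦ r • e := by
  simpa only [mres_refl] using he U le_rfl

/-- A frame on every member of a cover is a frame. -/
lemma IsFrame.smul_unit {L : X.Modules} {U : X.Opens} {e : Γ(L, U)} (he : IsFrame L e)
    {f : Γ(X, U)} (hf : IsUnit f) : IsFrame L (f • e) := fun V hV ↦ by
  simp only [mres_smul, smul_smul]
  exact (he V hV).comp (Units.mulRight_bijective (hf.map (ores hV)).unit)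

/-- A multiple of a frame is a frame only for units. -/
lemma IsFrame.isUnit_of_smul {L : X.Modules} {U : X.Opens} {e : Γ(L, U)} (he : IsFrame L e)
    {f : Γ(X, U)} (hf : IsFrame L (f • e)) : IsUnit f := by
  obtain ⟨r, hr⟩ := hf.bijective.2 e
  refine IsUnit.of_mul_eq_one_right r (he.bijective.1 ?_)
  simp only [smul_smul] at hr ⊢
  rw [hr, one_smul]

/-- A trivialisation gives a frame. -/
lemma exists_isFrame_of_triv {L : X.Modules} {U : X.Opens}
    (t : L.restrict U.ι ≅ Coh.structureModule (U : Scheme.{u})) : ∃ e : Γ(L, U), IsFrame L e := by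
  have htop : U ≤ U.ι ''ᵁ ⊤ := le_of_eq U.ι_image_top.symm
  refine ⟨QCohBase.mres L htop ((L.restrictAppIso U.ι ⊤).hom (sect t.inv ⊤)), fun V hV ↦ ?_⟩
  obtain ⟨W, rfl⟩ : ∃ W : U.toScheme.Opens, U.ι ''ᵁ W = V :=
    ⟨U.ι ⁻¹ᵁ V, (U.ι.image_preimage_eq_opensRange_inf V).trans
      (by rw [Scheme.Opens.opensRange_ι]; exact inf_eq_right.mpr hV)⟩
  have hb : Function.Bijective (t.inv.app W) :=
    (ConcreteCategory.isIso_iff_bijective _).mp (Scheme.Modules.Hom.isIso_iff_isIso_app.mp inferInstance W)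
  have key : ∀ r : Γ(U.toScheme, W), (U.ι.appIso W).inv r • QCohBase.mres L hV
      (QCohBase.mres L htop ((L.restrictAppIso U.ι ⊤).hom (sect t.inv ⊤))) =
        (L.restrictAppIso U.ι W).hom (t.inv.app W r) := fun r ↦ by
    rw [app_eq_smul, Scheme.Modules.smul_restrictAppIso_hom_apply, mres_mres, ← mres_sect t.inv (le_top : W ≤ ⊤)]
    rfl
  let e := (U.ι.appIso W).commRingCatIsoToRingEquiv
  have : (fun r : Γ(X, U.ι ''ᵁ W) ↦ r • QCohBase.mres L hV
      (QCohBase.mres L htop ((L.restrictAppIso U.ι ⊤).hom (sect t.inv ⊤)))) =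
      fun r ↦ (L.restrictAppIso U.ι W).hom (t.inv.app W (e r)) := funext fun r ↦ by
    rw [← key]
    exact congrArg (· • _) (e.symm_apply_apply r).symm
  rw [this]
  exact ((ConcreteCategory.isIso_iff_bijective (L.restrictAppIso U.ι W).hom).mp inferInstance).comp
    (hb.comp e.bijective)

/-- Frames exist locally for invertible modules. -/
theorem exists_isFrame {L : X.Modules} (hL : PicF.IsInvertible L) {x : X} {W : X.Opens} (hx : x ∈ W) :
    ∃ (U : X.Opens) (_ : IsAffineOpen U) (_ : x ∈ U) (_ : U ≤ W) (e : Γ(L, U)), IsFrame L e := by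
  obtain ⟨U, hU, hxU, hUW, ⟨t⟩⟩ := TensorMod.exists_affine_triv_le hL hx
  obtain ⟨e, he⟩ := exists_isFrame_of_triv t
  exact ⟨U, hU, hxU, hUW, e, he⟩

lemma isIso_restrict_iff {L : X.Modules} (s : Coh.structureModule X ⟶ L) (U : X.Opens) :
    IsIso ((Scheme.Modules.restrictFunctor U.ι).map s) ↔ IsFrame L (sect s U) := by
  rw [Scheme.Modules.Hom.isIso_iff_isIso_app]
  constructor
  · intro h V hV
    obtain ⟨W, rfl⟩ : ∃ W : U.toScheme.Opens, U.ι ''ᵁ W = V :=
      ⟨U.ι ⁻¹ᵁ V, (U.ι.image_preimage_eq_opensRange_inf V).trans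
        (by rw [Scheme.Opens.opensRange_ι]; exact inf_eq_right.mpr hV)⟩
    have hb : Function.Bijective (s.app (U.ι ''ᵁ W)) := (ConcreteCategory.isIso_iff_bijective _).mp (h W)
    rw [mres_sect]
    rw [show (fun r : Γ(X, U.ι ''ᵁ W) ↦ r • sect s (U.ι ''ᵁ W)) = ⇑(s.app (U.ι ''ᵁ W)).hom from
      funext fun r ↦ (app_eq_smul s _ r).symm]
    exact hb
  · intro h W
    rw [ConcreteCategory.isIso_iff_bijective]
    have := h (U.ι ''ᵁ W) ((U.ι.image_le_opensRange W).trans_eq U.opensRange_ι)
    rw [mres_sect] at this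
    show Function.Bijective ⇑(s.app (U.ι ''ᵁ W)).hom
    rw [← show (fun r : Γ(X, U.ι ''ᵁ W) ↦ r • sect s (U.ι ''ᵁ W)) = ⇑(s.app (U.ι ''ᵁ W)).hom from
      funext fun r ↦ (app_eq_smul s _ r).symm]
    exact this

/-- Membership in the locus of generation. -/
theorem mem_genLocus_iff {L : X.Modules} (s : Coh.structureModule X ⟶ L) {x : X} :
    x ∈ CohB1.genLocus L s ↔ ∃ U : X.Opens, x ∈ U ∧ IsFrame L (sect s U) := by
  rw [CohB1.genLocus, Opens.mem_sSup]
  constructor
  · rintro ⟨U, hU, hx⟩; exact ⟨U, hx, (isIso_restrict_iff s U).mp hU⟩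
  · rintro ⟨U, hx, hU⟩; exact ⟨U, (isIso_restrict_iff s U).mpr hU, hx⟩

/-- In terms of a frame the locus of generation is a basic open. -/
theorem genLocus_inf_eq_basicOpen {L : X.Modules} (s : Coh.structureModule X ⟶ L) {U : X.Opens}
    {e : Γ(L, U)} (he : IsFrame L e) {f : Γ(X, U)} (hf : f • e = sect s U) :
    CohB1.genLocus L s ⊓ U = X.basicOpen f := by
  have hres : ∀ (V : X.Opens) (h : V ≤ U), sect s V = ores h f • QCohBase.mres L h e := fun V h ↦ by
    rw [← mres_sect s h, ← hf, mres_smul]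
  refine le_antisymm ?_ ?_
  · rintro x ⟨hx, hxU⟩
    obtain ⟨V, hxV, hV⟩ := (mem_genLocus_iff s).mp hx
    have hV' := hV.res (inf_le_left : V ⊓ U ≤ V)
    rw [mres_sect, hres _ inf_le_right] at hV'
    have hu := (he.res inf_le_right).isUnit_of_smul hV'
    have := RingedSpace.mem_basicOpen X.toRingedSpace (ores (inf_le_right : V ⊓ U ≤ U) f) x ⟨hxV, hxU⟩
    have h2 : x ∈ X.basicOpen (ores (inf_le_right : V ⊓ U ≤ U) f) := by
      rw [X.basicOpen_of_isUnit hu]; exact ⟨hxV, hxU⟩
    rw [ores, Scheme.basicOpen_res] at h2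
    exact h2.2
  · intro x hx
    refine ⟨(mem_genLocus_iff s).mpr ⟨X.basicOpen f, hx, ?_⟩, X.basicOpen_le f hx⟩
    rw [hres _ (X.basicOpen_le f)]
    exact (he.res (X.basicOpen_le f)).smul_unit (RingedSpace.isUnit_res_basicOpen X.toRingedSpace f)

lemma genLocus_inf_frame {L : X.Modules} (s : Coh.structureModule X ⟶ L) {U : X.Opens}
    {e : Γ(L, U)} (he : IsFrame L e) :
    ∃ f : Γ(X, U), f • e = sect s U ∧ CohB1.genLocus L s ⊓ U = X.basicOpen f := by
  obtain ⟨f, hf⟩ := he.bijective.2 (sect s U)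
  exact ⟨f, hf, genLocus_inf_eq_basicOpen s he hf⟩

end Groth.Agent.GenLocus
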