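import Groth.Agent.GenLocus.Rel
import Groth.Agent.FpqcDescent.Basic
import Mathlib.RingTheory.TensorProduct.Pi

/-!
# Sections of invertible modules and faithfully flat base change; descent of ampleness
-/

set_option autoImplicit false
set_option backward.isDefEq.respectTransparency false
set_option backward.isDefEq.respectTransparency.types false

noncomputable section

universe u

open CategoryTheory Limits AlgebraicGeometry Opposite TopologicalSpace
open Groth.Agent.QCohBase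
open scoped TensorProduct

namespace Groth.Agent.GenLocus

variable {X X' Y Y' : Scheme.{u}} {g' : X' ⟶ X} {f' : X' ⟶ Y'} {f : X ⟶ Y} {g : Y' ⟶ Y}

lemma exists_theta (sq : IsPullback g' f' f g) [IsAffine Y] [IsAffine Y'] [Flat g] (U : X.Opens)
    (hU : IsCompact (U : Set X)) (hU' : IsQuasiSeparated (U : Set X)) :
    letI := (g.appLE ⊤ ⊤ le_top).hom.toAlgebra
    letI := (f.appLE ⊤ U le_top).hom.toAlgebra
    ∃ θ : Γ(Y', ⊤) ⊗[Γ(Y, ⊤)] Γ(X, U) →+* Γ(X', g' ⁻¹ᵁ U),
      Function.Bijective θ ∧ ∀ a b, θ (a ⊗ₜ b) = f'.appLE ⊤ (g' ⁻¹ᵁ U) le_top a * g'.app U b := by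
  letI := (g.appLE ⊤ ⊤ le_top).hom.toAlgebra
  letI := (f.appLE ⊤ U le_top).hom.toAlgebra
  have hUY : g' ⁻¹ᵁ U = g' ⁻¹ᵁ U ⊓ f' ⁻¹ᵁ ⊤ := (inf_top_eq _).symm
  have h := (isIso_pushoutSection_iff sq (US := ⊤) (UT := ⊤) (UX := U) le_top le_top hUY).mp
    (isIso_pushoutSection_of_isQuasiSeparated_of_flat_right sq le_top le_top hUY (isAffineOpen_top Y)
      (isAffineOpen_top Y') hU hU')
  have hT := CommRingCat.isPushout_tensorProduct Γ(Y, ⊤) Γ(Y', ⊤) Γ(X, U)
  refine ⟨(hT.isoIsPushout _ _ h.flip).hom.hom, ConcreteCategory.bijective_of_isIso _, fun a b ↦ ?_⟩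
  have ha := ConcreteCategory.congr_hom (hT.inl_isoIsPushout_hom _ _ h.flip) a
  have hb := ConcreteCategory.congr_hom (hT.inr_isoIsPushout_hom _ _ h.flip) b
  have : a ⊗ₜ[Γ(Y, ⊤)] b = (a ⊗ₜ 1) * (1 ⊗ₜ b) := by
    rw [Algebra.TensorProduct.tmul_mul_tmul, mul_one, one_mul]
  rw [this, map_mul, Scheme.Hom.app_eq_appLE]
  exact congrArg₂ (· * ·) ha hb

/-- Sections of an invertible module on a base change are generated by inverse images of sections. -/
theorem exists_genLocus_of_flat (sq : IsPullback g' f' f g) [IsAffine Y] [IsAffine Y'] [Flat g]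
    [CompactSpace X] [QuasiSeparatedSpace X] {M : X.Modules} (hM : PicF.IsInvertible M)
    (s' : Coh.structureModule X' ⟶ (Scheme.Modules.pullback g').obj M) {x' : X'}
    (hx' : x' ∈ CohB1.genLocus _ s') :
    ∃ s : Coh.structureModule X ⟶ M, g' x' ∈ CohB1.genLocus M s := by
  classical
  choose A hA hxA _ e he using fun x : X ↦ exists_isFrame hM (W := ⊤) (x := x) trivial
  obtain ⟨t, ht⟩ := CompactSpace.elim_nhds_subcover (fun x ↦ (A x : Set X))
    (fun x ↦ (A x).2.mem_nhds (hxA x))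
  have hcov : (⊤ : X.Opens) ≤ ⨆ i : t, A i.1 := fun x _ ↦ by
    have : x ∈ ⋃ i ∈ t, (A i : Set X) := by rw [ht]; trivial
    obtain ⟨i, hi, hxi⟩ := Set.mem_iUnion₂.mp this
    exact Opens.mem_iSup.mpr ⟨⟨i, hi⟩, hxi⟩
  let I : t × t → X.Opens := fun z ↦ A z.1.1 ⊓ A z.2.1
  have hIi : ∀ z, I z ≤ A z.1.1 := fun z ↦ inf_le_left
  have hIj : ∀ z, I z ≤ A z.2.1 := fun z ↦ inf_le_right
  letI : Algebra Γ(Y, ⊤) Γ(Y', ⊤) := (g.appLE ⊤ ⊤ le_top).hom.toAlgebra
  letI alg : ∀ U : X.Opens, Algebra Γ(Y, ⊤) Γ(X, U) := fun U ↦ (f.appLE ⊤ U le_top).hom.toAlgebra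
  haveI : Module.Flat Γ(Y, ⊤) Γ(Y', ⊤) :=
    g.flat_appLE (isAffineOpen_top Y) (isAffineOpen_top Y') le_top
  choose v hv using fun z : t × t ↦ ((he z.1.1).res (hIi z)).bijective.2 (mres M (hIj z) (e z.2.1))
  let res : ∀ {U V : X.Opens}, V ≤ U → Γ(X, U) →ₗ[Γ(Y, ⊤)] Γ(X, V) := fun {U V} h ↦
    { toFun := ores h
      map_add' := map_add _
      map_smul' := fun r x ↦ by
        show ores h (f.appLE ⊤ U le_top r * x) = f.appLE ⊤ V le_top r * ores h x
        rw [map_mul, ores, ← CommRingCat.comp_apply, Scheme.Hom.appLE_map] }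
  let δ : (∀ i : t, Γ(X, A i.1)) →ₗ[Γ(Y, ⊤)] (∀ z : t × t, Γ(X, I z)) :=
    LinearMap.pi fun z ↦ (res (hIi z)) ∘ₗ LinearMap.proj z.1 -
      (LinearMap.mulRight Γ(Y, ⊤) (v z)) ∘ₗ (res (hIj z)) ∘ₗ LinearMap.proj z.2
  have hqc : ∀ z, IsCompact (I z : Set X) := fun z ↦
    QuasiSeparatedSpace.inter_isCompact (A z.1.1 : Set X) (A z.2.1 : Set X) (A z.1.1).isOpen
      (hA z.1.1).isCompact (A z.2.1).isOpen (hA z.2.1).isCompact
  have hqs : ∀ U : X.Opens, IsQuasiSeparated (U : Set X) := fun U ↦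
    IsQuasiSeparated.of_subset (isQuasiSeparated_univ) (Set.subset_univ _)
  choose θA hθA hθAt using fun i : t ↦ exists_theta sq (A i.1) (hA i.1).isCompact (hqs _)
  choose θI hθI hθIt using fun z ↦ exists_theta sq (I z) (hqc z) (hqs _)
  choose c' hc' using fun i : t ↦ ((he i.1).pullSec g').bijective.2 (sect s' (g' ⁻¹ᵁ A i.1))
  choose w hw using fun i ↦ (hθA i).2 (c' i)
  let E := TensorProduct.piRight Γ(Y, ⊤) Γ(Y', ⊤) Γ(Y', ⊤) fun i : t ↦ Γ(X, A i.1)
  let Z := E.symm w
  have hEproj : ∀ (i : t) (u : Γ(Y', ⊤) ⊗[Γ(Y, ⊤)] (∀ i : t, Γ(X, A i.1))),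
      LinearMap.lTensor Γ(Y', ⊤) (LinearMap.proj i) u = E u i := fun i u ↦ by
    induction u using TensorProduct.induction_on with
    | zero => simp
    | tmul r x => simp [E]
    | add p q hp hq => simp [hp, hq]
  have hres1 : ∀ (i : t) (V : X.Opens) (h : V ≤ A i.1) (θV : Γ(Y', ⊤) ⊗[Γ(Y, ⊤)] Γ(X, V) →+* Γ(X', g' ⁻¹ᵁ V)),
      (∀ a b, θV (a ⊗ₜ b) = f'.appLE ⊤ (g' ⁻¹ᵁ V) le_top a * g'.app V b) →
      ∀ u, θV (LinearMap.lTensor Γ(Y', ⊤) (res h) u) = ores (g'.preimage_mono h) (θA i u) := by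
    intro i V h θV hθV u
    induction u using TensorProduct.induction_on with
    | zero => simp
    | add p q hp hq => simp [hp, hq]
    | tmul r x =>
      rw [LinearMap.lTensor_tmul, hθV, hθAt, map_mul]
      congr 1
      · rw [ores, ← CommRingCat.comp_apply, Scheme.Hom.appLE_map]
      · show g'.app V (ores h x) = _
        rw [ores, ores, ← CommRingCat.comp_apply, ← CommRingCat.comp_apply, Scheme.Hom.naturality]
        rfl
  have hmul : ∀ (z : t × t) (u : Γ(Y', ⊤) ⊗[Γ(Y, ⊤)] Γ(X, I z)),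
      θI z (LinearMap.lTensor Γ(Y', ⊤) (LinearMap.mulRight Γ(Y, ⊤) (v z)) u) = θI z u * g'.app (I z) (v z) := by
    intro z u
    induction u using TensorProduct.induction_on with
    | zero => simp
    | add p q hp hq => simp [hp, hq, add_mul]
    | tmul r x => rw [LinearMap.lTensor_tmul, hθIt, hθIt, LinearMap.mulRight_apply, map_mul, mul_assoc]
  have hZ : LinearMap.lTensor Γ(Y', ⊤) δ Z = 0 := by
    apply (TensorProduct.piRight Γ(Y, ⊤) Γ(Y', ⊤) Γ(Y', ⊤) fun z : t × t ↦ Γ(X, I z)).injective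
    rw [map_zero]
    funext z
    have hpz : ∀ u : Γ(Y', ⊤) ⊗[Γ(Y, ⊤)] (∀ z : t × t, Γ(X, I z)),
        TensorProduct.piRight Γ(Y, ⊤) Γ(Y', ⊤) Γ(Y', ⊤) (fun z : t × t ↦ Γ(X, I z)) u z =
          LinearMap.lTensor Γ(Y', ⊤) (LinearMap.proj z) u := fun u ↦ by
      induction u using TensorProduct.induction_on with
      | zero => simp
      | tmul r x => simp
      | add p q hp hq => rw [map_add, map_add, Pi.add_apply, hp, hq]
    rw [hpz, ← LinearMap.lTensor_comp_apply]
    apply (hθI z).1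
    simp only [δ, LinearMap.proj_pi]
    rw [LinearMap.lTensor_sub, LinearMap.sub_apply, LinearMap.lTensor_comp_apply,
      LinearMap.lTensor_comp_apply, LinearMap.lTensor_comp_apply, map_sub, hEproj, hEproj,
      hres1 _ _ _ _ (hθIt z), hmul, hres1 _ _ _ _ (hθIt z), Pi.zero_apply, map_zero,
      show E Z = w from E.apply_symm_apply w, hw, hw, sub_eq_zero]
    refine ((he z.1.1).res (hIi z)).pullSec g' |>.bijective.1 ?_
    show ores _ (c' z.1) • pullSec g' M (I z) (mres M (hIi z) (e z.1.1)) =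
      (ores _ (c' z.2) * g'.app (I z) (v z)) • pullSec g' M (I z) (mres M (hIi z) (e z.1.1))
    rw [mul_smul, ← pullSec_smul, show v z • mres M (hIi z) (e z.1.1) = mres M (hIj z) (e z.2.1) from hv z,
      ← pullSec_mres g' M (hIi z), ← pullSec_mres g' M (hIj z), ← mres_smul, ← mres_smul,
      show c' z.1 • pullSec g' M _ (e z.1.1) = sect s' _ from hc' z.1,
      show c' z.2 • pullSec g' M _ (e z.2.1) = sect s' _ from hc' z.2, mres_sect, mres_sect]
  have hex : Function.Exact (LinearMap.ker δ).subtype δ := LinearMap.exact_subtype_ker_map δ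
  obtain ⟨u, hu⟩ := (Module.Flat.lTensor_exact Γ(Y', ⊤) hex Z).mp hZ
  obtain ⟨i, hi⟩ := Opens.mem_iSup.mp (hcov (show g' x' ∈ (⊤ : X.Opens) from trivial))
  have hunit : IsUnit (X'.presheaf.germ (g' ⁻¹ᵁ A i.1) x' hi (c' i)) :=
    (mem_genLocus_iff_isUnit_germ ((he i.1).pullSec g') s' (hc' i) hi).mp hx'
  have key : ∃ c : LinearMap.ker δ, IsUnit (X'.presheaf.germ (g' ⁻¹ᵁ A i.1) x' hi (g'.app (A i.1) (c.1 i))) := by
    by_contra hne
    push Not at hne
    apply (IsLocalRing.mem_maximalIdeal _).mp ?_ hunit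
    rw [← hw i, show w i = E Z i from (congrFun (E.apply_symm_apply w) i).symm, ← hEproj, ← hu,
      ← LinearMap.lTensor_comp_apply]
    clear hu
    induction u using TensorProduct.induction_on with
    | zero => simp only [map_zero]; exact Ideal.zero_mem _
    | add p q hp hq => simp only [map_add]; exact Ideal.add_mem _ hp hq
    | tmul r c =>
      rw [LinearMap.lTensor_tmul, hθAt, map_mul]
      exact Ideal.mul_mem_left _ _ ((IsLocalRing.mem_maximalIdeal _).mpr (hne c))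
  obtain ⟨c, hc⟩ := key
  obtain ⟨τ, hτ, -⟩ := TopCat.Sheaf.existsUnique_gluing' ⟨M.presheaf, M.isSheaf⟩ (fun i : t ↦ A i.1) ⊤
    (fun i ↦ homOfLE le_top) hcov (fun i ↦ c.1 i • e i.1) (fun a b ↦ by
      show mres M inf_le_left (c.1 a • e a.1) = mres M inf_le_right (c.1 b • e b.1)
      have h0 : ores (hIi (a, b)) (c.1 a) - ores (hIj (a, b)) (c.1 b) * v (a, b) = 0 :=
        congrFun c.2 (a, b)
      rw [sub_eq_zero] at h0
      rw [mres_smul, mres_smul]
      refine Eq.trans (b := ores (hIi (a, b)) (c.1 a) • mres M (hIi (a, b)) (e a.1)) rfl ?_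
      rw [h0, mul_smul]
      exact congrArg (ores (hIj (a, b)) (c.1 b) • ·) (hv (a, b)))
  refine ⟨homOfSection M τ, ?_⟩
  have hsect : c.1 i • e i.1 = sect (homOfSection M τ) (A i.1) :=
    ((sect_homOfSection M τ _).trans (hτ i)).symm
  rw [mem_genLocus_iff_isUnit_germ (he i.1) _ hsect hi]
  have h1 : x' ∈ X'.basicOpen (g'.app (A i.1) (c.1 i)) := (Scheme.mem_basicOpen X' _ x' hi).mpr hc
  rw [← Scheme.preimage_basicOpen] at h1
  exact (Scheme.mem_basicOpen X _ _ hi).mp h1

/-- A locus of generation in the presence of an ample module is quasi-affine. -/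
theorem isQuasiAffine_genLocus {L : X.Modules} (h : CohB1.IsAmple L) {n : ℕ}
    (s : Coh.structureModule X ⟶ CohB1.tensorPow L (n + 1)) :
    (CohB1.genLocus _ s).toScheme.IsQuasiAffine := by
  haveI := h.2.1
  have hLn := TensorMod.isInvertible_tensorPow h.1 (n + 1)
  set U := CohB1.genLocus _ s
  haveI := isAffineHom_genLocus_ι hLn s
  haveI : CompactSpace U.toScheme := QuasiCompact.compactSpace_of_compactSpace U.ι
  refine .of_forall_exists_mem_basicOpen _ fun x ↦ ?_
  obtain ⟨m, t, hxt, ht⟩ := h.2.2 (U.ι x)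
  obtain ⟨a, ha⟩ := exists_same_genLocus h.1 (Nat.mul_pos n.succ_pos m.succ_pos) (Dvd.intro _ rfl) s
  obtain ⟨b, hb⟩ := exists_same_genLocus h.1 (Nat.mul_pos n.succ_pos m.succ_pos) (Dvd.intro_left _ rfl) t
  have hfr : IsFrame _ (sect a U) := by have := isFrame_sect_genLocus a; rwa [ha] at this
  obtain ⟨φ, -, hφ⟩ := genLocus_inf_frame b hfr
  rw [hb] at hφ
  have himg : U.ι ''ᵁ U.toScheme.basicOpen (U.topIso.inv φ) = X.basicOpen φ := by
    rw [Scheme.image_basicOpen]
    simp only [Scheme.Opens.topIso, Scheme.Opens.ι_appIso, Functor.mapIso_inv, Iso.refl_inv]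
    exact X.basicOpen_res_eq _ _
  refine ⟨U.topIso.inv φ, U.ι.isAffineOpen_iff_of_isOpenImmersion.mp ?_, ?_⟩
  · rw [himg, ← hφ, inf_comm]
    exact isAffineOpen_genLocus_inf hLn s ht
  · have : U.ι x ∈ U.ι ''ᵁ U.toScheme.basicOpen (U.topIso.inv φ) := by rw [himg, ← hφ]; exact ⟨hxt, x.2⟩
    obtain ⟨y, hy, hyx⟩ := this
    exact U.ι.isOpenEmbedding.injective hyx ▸ hy

lemma isQuasiAffine_of_affine_base {T : Scheme.{u}} (q : T ⟶ Y) (g : Y' ⟶ Y) [IsAffine Y] [IsAffine Y']
    [QuasiCompact q] [Flat g] [Surjective g] (h : (pullback q g).IsQuasiAffine) : T.IsQuasiAffine := by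
  let φ := g.appTop
  have hg : Spec.map φ = Y'.isoSpec.inv ≫ g ≫ Y.isoSpec.hom := by
    rw [← Scheme.isoSpec_hom_naturality, Iso.inv_hom_id_assoc]
  haveI : Flat (Spec.map φ) := by rw [hg]; infer_instance
  haveI : Surjective (Spec.map φ) := by rw [hg]; infer_instance
  haveI : (pullback (Spec.map φ) (q ≫ Y.isoSpec.hom)).IsQuasiAffine := by
    refine quasiAffine_of_iso ?_ h
    refine (pullbackSymmetry _ _) ≪≫ @asIso _ _ _ _ (pullback.map (q ≫ Y.isoSpec.hom) (Spec.map φ) q g (𝟙 _)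
      Y'.isoSpec.inv Y.isoSpec.inv (by simp) (by rw [Scheme.isoSpec_inv_naturality])) inferInstance
  exact Groth.Agent.FpqcDescent.isQuasiAffine_of_pullback φ (q ≫ Y.isoSpec.hom)

/-- Ampleness descends along faithfully flat base change of affine schemes. -/
theorem isAmple_of_pullback (f : X ⟶ Y) (g : Y' ⟶ Y) [IsAffine Y] [IsAffine Y'] [QuasiCompact f]
    [Flat g] [Surjective g] {L : X.Modules} (hL : PicF.IsInvertible L)
    (h : CohB1.IsAmple ((Scheme.Modules.pullback (pullback.fst f g)).obj L)) : CohB1.IsAmple L := by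
  haveI : CompactSpace X := QuasiCompact.compactSpace_of_compactSpace f
  haveI := isSeparated_of_isAmple h
  have hQ : (@Surjective ⊓ @Flat ⊓ @QuasiCompact : MorphismProperty Scheme.{u}) g :=
    ⟨⟨inferInstance, inferInstance⟩, inferInstance⟩
  haveI : IsSeparated f := MorphismProperty.of_pullback_snd_of_descendsAlong
    (P := @IsSeparated) (Q := @Surjective ⊓ @Flat ⊓ @QuasiCompact) hQ
    (inferInstanceAs (IsSeparated (pullback.snd f g)))
  haveI : QuasiSeparatedSpace X := quasiSeparatedSpace_of_quasiSeparated f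
  refine ⟨hL, inferInstance, fun x ↦ ?_⟩
  obtain ⟨x', hx'⟩ := (pullback.fst f g).surjective x
  obtain ⟨n, s', hxs', -⟩ := h.2.2 x'
  obtain ⟨s, hs⟩ := exists_genLocus_of_flat (IsPullback.of_hasPullback f g)
    (TensorMod.isInvertible_tensorPow hL (n + 1)) (s' ≫ (pullPowIso (pullback.fst f g) hL (n + 1)).symm.hom)
    (x' := x') (by rw [genLocus_comp_iso]; exact hxs')
  rw [hx'] at hs
  set U := CohB1.genLocus _ s with hU
  haveI : QuasiCompact (U.ι ≫ f) := by
    haveI := isAffineHom_genLocus_ι (TensorMod.isInvertible_tensorPow hL (n + 1)) s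
    infer_instance
  haveI : U.toScheme.IsQuasiAffine := by
    have hQY : IsAffineHom g := inferInstance
    have hamp : (pullback (U.ι ≫ f) g).IsQuasiAffine := by
      obtain ⟨c, hc⟩ := exists_genLocus_pullback (pullback.fst f g) hL s
      haveI := isQuasiAffine_genLocus h c
      rw [hc] at this
      exact quasiAffine_of_iso ((pullbackRightPullbackFstIso f g U.ι).symm ≪≫
        pullbackSymmetry _ _ ≪≫ pullbackRestrictIsoRestrict (pullback.fst f g) U) this
    exact isQuasiAffine_of_affine_base (U.ι ≫ f) g hamp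
  obtain ⟨_, ⟨_, ⟨r, hr, rfl⟩, rfl⟩, hxr, -⟩ := (Scheme.IsQuasiAffine.isBasis_basicOpen
    U.toScheme).exists_subset_of_mem_open (Set.mem_univ ⟨x, hs⟩) isOpen_univ
  obtain ⟨m, d, hd⟩ := exists_genLocus_eq_basicOpen hL s (U.topIso.hom r)
  have himg : X.basicOpen (U.topIso.hom r) = U.ι ''ᵁ U.toScheme.basicOpen r := by
    rw [Scheme.image_basicOpen]
    simp [Scheme.Opens.topIso]
    exact X.basicOpen_res_eq _ _
  exact ⟨m, d, by rw [hd, himg]; exact ⟨⟨x, hs⟩, hxr, rfl⟩, by rw [hd, himg]; exact hr.image_of_isOpenImmersion U.ι⟩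

/-- Ampleness of an inverse image along composable morphisms. -/
theorem isAmple_pullback_comp {Z : Scheme.{u}} (a : X ⟶ Y) (b : Y ⟶ Z) (L : Z.Modules) :
    CohB1.IsAmple ((Scheme.Modules.pullback (a ≫ b)).obj L) ↔
      CohB1.IsAmple ((Scheme.Modules.pullback a).obj ((Scheme.Modules.pullback b).obj L)) :=
  isAmple_iff_of_iso ((Scheme.Modules.pullbackComp a b).app L).symm

/-- Ampleness on the range of an open immersion. -/
theorem isAmple_restrict_opensRange (m : X ⟶ Y) [IsOpenImmersion m] {M : Y.Modules}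
    (h : CohB1.IsAmple ((Scheme.Modules.pullback m).obj M)) : CohB1.IsAmple (M.restrict m.opensRange.ι) := by
  have h2 := isAmple_pullback_of_isAffineHom m.isoOpensRange.inv h
  rw [← isAmple_pullback_comp, show m.isoOpensRange.inv ≫ m = m.opensRange.ι from by simp] at h2
  exact isAmple_of_iso ((Scheme.Modules.restrictFunctorIsoPullback _).symm.app M) h2

/-- Relative ampleness descends along faithfully flat quasi-compact base change. -/
theorem isRelAmple_of_pullback (f : X ⟶ Y) (g : Y' ⟶ Y) [QuasiCompact g] [Flat g] [Surjective g]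
    {L : X.Modules} (hL : PicF.IsInvertible L)
    (h : RelAmple.IsRelAmple (pullback.snd f g) ((Scheme.Modules.pullback (pullback.fst f g)).obj L)) :
    RelAmple.IsRelAmple f L := by
  classical
  have hQ : (@Surjective ⊓ @Flat ⊓ @QuasiCompact : MorphismProperty Scheme.{u}) g :=
    ⟨⟨inferInstance, inferInstance⟩, inferInstance⟩
  haveI : QuasiCompact f := MorphismProperty.of_pullback_snd_of_descendsAlong
    (P := @QuasiCompact) (Q := @Surjective ⊓ @Flat ⊓ @QuasiCompact) hQ h.1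
  refine ⟨inferInstance, fun V ↦ ?_⟩
  haveI : IsAffine V.1 := V.2
  obtain ⟨κ, _, W, hW, hWV, hcov⟩ := exists_finite_affine_cover (g.isCompact_preimage V.2.isCompact)
  haveI : ∀ k, IsAffine (W k).toScheme := hW
  let Y'' : Scheme.{u} := ∐ fun k ↦ (W k).toScheme
  let q : Y'' ⟶ V.1.toScheme := Sigma.desc fun k ↦ IsOpenImmersion.lift V.1.ι ((W k).ι ≫ g) (by
    rintro _ ⟨w, rfl⟩
    rw [Scheme.Opens.range_ι]
    exact hWV k w.2)
  have hqk : ∀ k, Sigma.ι (fun k ↦ (W k).toScheme) k ≫ q ≫ V.1.ι = (W k).ι ≫ g := fun k ↦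
    (Sigma.ι_desc_assoc _ _ _).trans (IsOpenImmersion.lift_fac _ _ _)
  haveI : IsAffine Y'' := inferInstanceAs (IsAffine (∐ fun k ↦ (W k).toScheme))
  haveI : Flat q := by
    refine (IsZariskiLocalAtSource.iff_of_openCover (P := @Flat) (sigmaOpenCover _)).mpr fun k ↦ ?_
    show Flat (Sigma.ι (fun k ↦ (W k).toScheme) k ≫ q)
    rw [Sigma.ι_desc]
    refine MorphismProperty.of_postcomp (W := @Flat) (W' := @IsOpenImmersion) _ V.1.ι inferInstance ?_
    rw [IsOpenImmersion.lift_fac]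
    infer_instance
  haveI : Surjective q := ⟨fun y ↦ by
    obtain ⟨y', hy'⟩ := g.surjective y.1
    obtain ⟨k, hk⟩ := Opens.mem_iSup.mp (hcov (show y' ∈ g ⁻¹ᵁ V.1 by show g y' ∈ V.1; rw [hy']; exact y.2))
    refine ⟨Sigma.ι (fun k ↦ (W k).toScheme) k ⟨y', hk⟩, V.1.ι.isOpenEmbedding.injective ?_⟩
    rw [← Scheme.Hom.comp_apply, ← Scheme.Hom.comp_apply, Sigma.ι_desc_assoc, IsOpenImmersion.lift_fac]
    exact hy'⟩
  haveI : QuasiCompact (f ∣_ V.1) := inferInstance
  refine isAmple_of_pullback (f ∣_ V.1) q (TensorMod.isInvertible_restrict hL _) ?_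
  let A := f ⁻¹ᵁ V.1
  let P := pullback (f ∣_ V.1) q
  let p1 : P ⟶ A.toScheme := pullback.fst _ _
  let M := (Scheme.Modules.pullback p1).obj (L.restrict A.ι)
  suffices hrel : RelAmple.IsRelAmple (pullback.snd (f ∣_ V.1) q) M by
    have := hrel.2 ⟨⊤, isAffineOpen_top _⟩
    have e : (pullback.snd (f ∣_ V.1) q ⁻¹ᵁ ⊤) = (⊤ : P.Opens) := rfl
    rw [isAmple_restrict_congr M e] at this
    refine isAmple_of_iso ?_ (isAmple_pullback_of_isAffineHom (Scheme.topIso P).inv this)
    exact (Scheme.Modules.pullback _).mapIso ((Scheme.Modules.restrictFunctorIsoPullback _).app M) ≪≫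
      (Scheme.Modules.pullbackComp _ _).app M ≪≫
      (Scheme.Modules.pullbackCongr (show (Scheme.topIso P).inv ≫ (⊤ : P.Opens).ι = 𝟙 P by simp [← Scheme.topIso_hom])).app M ≪≫
      (Scheme.Modules.pullbackId P).app M
  refine isRelAmple_of_cover _ (fun k ↦ (Sigma.ι (fun k ↦ (W k).toScheme) k).opensRange) ?_ fun k ↦ ?_
  · exact (sigmaOpenCover fun k ↦ (W k).toScheme).iSup_opensRange
  haveI : IsAffine (Sigma.ι (fun k ↦ (W k).toScheme) k).opensRange.toScheme := isAffineOpen_opensRange _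
  refine isRelAmple_of_isAmple _ ?_
  let T := pullback.snd f g ⁻¹ᵁ W k
  have hT : CohB1.IsAmple (((Scheme.Modules.pullback (pullback.fst f g)).obj L).restrict T.ι) := h.2 ⟨W k, hW k⟩
  have hTV : ∀ t : T, f (pullback.fst f g (T.ι t)) ∈ V.1 := fun t ↦ by
    rw [← Scheme.Hom.comp_apply, pullback.condition, Scheme.Hom.comp_apply]
    exact hWV k t.2
  let a : T.toScheme ⟶ A.toScheme := IsOpenImmersion.lift A.ι (T.ι ≫ pullback.fst f g) (by
    rintro _ ⟨t, rfl⟩; rw [Scheme.Opens.range_ι]; exact hTV t)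
  let m : T.toScheme ⟶ P := pullback.lift a
    ((pullback.snd f g ∣_ W k) ≫ Sigma.ι (fun k ↦ (W k).toScheme) k) (by
      rw [← cancel_mono V.1.ι, Category.assoc, morphismRestrict_ι, IsOpenImmersion.lift_fac_assoc,
        Category.assoc, Category.assoc]
      refine Eq.trans ?_ (congrArg ((pullback.snd f g ∣_ W k) ≫ ·) (hqk k).symm)
      rw [morphismRestrict_ι_assoc, pullback.condition])
  have sqT : IsPullback a (pullback.snd f g ∣_ W k) (f ∣_ V.1)
      (IsOpenImmersion.lift V.1.ι ((W k).ι ≫ g) (by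
        rintro _ ⟨w, rfl⟩; rw [Scheme.Opens.range_ι]; exact hWV k w.2)) := by
    refine IsPullback.of_right ?_ ?_ (isPullback_morphismRestrict f V.1).flip
    · rw [IsOpenImmersion.lift_fac, IsOpenImmersion.lift_fac]
      exact (isPullback_morphismRestrict (pullback.snd f g) (W k)).flip.paste_horiz
        (IsPullback.of_hasPullback f g)
    · rw [← cancel_mono V.1.ι, Category.assoc, Category.assoc, morphismRestrict_ι,
        IsOpenImmersion.lift_fac_assoc, IsOpenImmersion.lift_fac, morphismRestrict_ι_assoc,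
        Category.assoc, pullback.condition]
  have hm : IsPullback m (pullback.snd f g ∣_ W k) (pullback.snd (f ∣_ V.1) q)
      (Sigma.ι (fun k ↦ (W k).toScheme) k) := by
    refine IsPullback.of_right ?_ (pullback.lift_snd _ _ _) (IsPullback.of_hasPullback (f ∣_ V.1) q)
    rw [pullback.lift_fst, Sigma.ι_desc]
    exact sqT
  haveI : IsOpenImmersion m := MorphismProperty.of_isPullback (P := @IsOpenImmersion) hm.flip inferInstance
  have hrange : m.opensRange = pullback.snd (f ∣_ V.1) q ⁻¹ᵁ (Sigma.ι (fun k ↦ (W k).toScheme) k).opensRange :=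
    Opens.ext (by
      show Set.range m = _
      rw [← hm.isoPullback_hom_fst, Scheme.Hom.comp_base, TopCat.coe_comp, Set.range_comp,
        Set.range_eq_univ.mpr (hm.isoPullback.hom.surjective), Set.image_univ, Scheme.Pullback.range_fst]
      rfl)
  rw [← isAmple_restrict_congr M hrange]
  refine isAmple_restrict_opensRange m ?_
  refine isAmple_of_iso ?_ hT
  exact (Scheme.Modules.restrictFunctorIsoPullback T.ι).app _ ≪≫
    (Scheme.Modules.pullbackComp _ _).app L ≪≫
    (Scheme.Modules.pullbackCongr (show T.ι ≫ pullback.fst f g = (m ≫ p1) ≫ A.ι by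
      rw [pullback.lift_fst, IsOpenImmersion.lift_fac])).app L ≪≫
    (Scheme.Modules.pullbackComp _ _).symm.app L ≪≫
    (Scheme.Modules.pullback (m ≫ p1)).mapIso ((Scheme.Modules.restrictFunctorIsoPullback A.ι).symm.app L) ≪≫
    (Scheme.Modules.pullbackComp _ _).symm.app _

end Groth.Agent.GenLocus
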