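import Groth.Agent.GenLocus.Extend

/-!
# Separatedness from covers by affine opens; applications to loci of generation
-/

set_option autoImplicit false
set_option backward.isDefEq.respectTransparency false
set_option backward.isDefEq.respectTransparency.types false

noncomputable section

universe u

open CategoryTheory Limits AlgebraicGeometry Opposite TopologicalSpace
open Groth.Agent.QCohBase

namespace Groth.Agent.GenLocus

variable {X : Scheme.{u}}

/-- A cover by affine opens as an open cover. -/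
def coverOf {ι : Type u} (U : ι → X.Opens) (hcov : ⨆ i, U i = ⊤) : X.OpenCover :=
  X.openCoverOfIsOpenCover U hcov

theorem isAffineHom_diagonal_of_cover {ι : Type u} (U : ι → X.Opens) (hcov : ⨆ i, U i = ⊤)
    (hU : ∀ i, IsAffineOpen (U i)) (hUU : ∀ i j, IsAffineOpen (U i ⊓ U j)) :
    IsAffineHom (pullback.diagonal (terminal.from X)) := by
  let 𝒰 := X.openCoverOfIsOpenCover U hcov
  haveI : ∀ i, IsAffine (𝒰.X i) := hU
  letI := HasAffineProperty.isLocal_affineProperty @IsAffineHom
  refine (HasAffineProperty.diagonal_iff @IsAffineHom).mp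
    (AffineTargetMorphismProperty.diagonal_of_openCover_source (terminal.from X) 𝒰 fun i j ↦ ?_)
  haveI : IsAffine (U i ⊓ U j : X.Opens) := hUU i j
  exact IsAffine.of_isIso (isPullback_opens_inf (U i) (U j)).isoPullback.inv

theorem isSeparated_of_cover {ι : Type u} (U : ι → X.Opens) (hcov : ⨆ i, U i = ⊤)
    (hU : ∀ i, IsAffineOpen (U i))
    (h : ∀ i j, ∃ (φ : Γ(X, U j)) (ψ : Γ(X, U i)), U i ⊓ U j = X.basicOpen φ ∧
      ores (inf_le_right : U i ⊓ U j ≤ U j) φ * ores (inf_le_left : U i ⊓ U j ≤ U i) ψ = 1) :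
    X.IsSeparated := by
  constructor
  constructor
  let 𝒰 := X.openCoverOfIsOpenCover U hcov
  haveI : ∀ i, IsAffine (𝒰.X i) := hU
  letI := HasAffineProperty.isLocal_affineProperty @IsClosedImmersion
  refine (HasAffineProperty.diagonal_iff @IsClosedImmersion).mp
    (AffineTargetMorphismProperty.diagonal_of_openCover_source (terminal.from X) 𝒰 fun i j ↦ ?_)
  obtain ⟨φ, ψ, hW, hφψ⟩ := h i j
  have hWaff : IsAffineOpen (U i ⊓ U j) := hW ▸ (hU j).basicOpen φ
  haveI : IsAffine (U i ⊓ U j : X.Opens) := hWaff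
  let e := (isPullback_opens_inf (U i) (U j)).isoPullback
  refine ⟨IsAffine.of_isIso e.inv, ?_⟩
  let m := pullback.mapDesc (𝒰.f i) (𝒰.f j) (terminal.from X)
  suffices hs : Function.Surjective (e.hom ≫ m).appTop by
    intro y
    obtain ⟨x, hx⟩ := hs (e.hom.appTop y)
    exact ⟨x, (ConcreteCategory.bijective_of_isIso e.hom.appTop).1 hx⟩
  have hfst : (e.hom ≫ m) ≫ pullback.fst _ _ = X.homOfLE (inf_le_left : U i ⊓ U j ≤ U i) := by
    simp only [Category.assoc, m, pullback.mapDesc, pullback.lift_fst]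
    exact (isPullback_opens_inf (U i) (U j)).isoPullback_hom_fst
  have hsnd : (e.hom ≫ m) ≫ pullback.snd _ _ = X.homOfLE (inf_le_right : U i ⊓ U j ≤ U j) := by
    simp only [Category.assoc, m, pullback.mapDesc, pullback.lift_snd]
    exact (isPullback_opens_inf (U i) (U j)).isoPullback_hom_snd
  have htop : ∀ V : X.Opens, V.ι ''ᵁ ⊤ ≤ V := fun V ↦ V.ι_image_top.le
  intro y
  let y' : Γ(X, U i ⊓ U j) := ores (U i ⊓ U j).ι_image_top.ge y
  letI : Algebra Γ(X, U j) Γ(X, U i ⊓ U j) := (ores (inf_le_right : U i ⊓ U j ≤ U j)).toAlgebra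
  haveI : IsLocalization.Away φ Γ(X, U i ⊓ U j) :=
    (hU j).isLocalization_of_eq_basicOpen φ (homOfLE inf_le_right) hW
  obtain ⟨⟨a, ⟨_, n, rfl⟩⟩, ha⟩ := IsLocalization.surj (Submonoid.powers φ) y'
  have ha' : y' * ores (inf_le_right : U i ⊓ U j ≤ U j) φ ^ n = ores inf_le_right a := by
    rw [← map_pow]; exact ha
  have hy : y' = ores inf_le_right a * ores (inf_le_left : U i ⊓ U j ≤ U i) ψ ^ n := by
    rw [← ha', mul_assoc, ← mul_pow, hφψ, one_pow, mul_one]
  refine ⟨(pullback.snd (𝒰.f i ≫ terminal.from X) (𝒰.f j ≫ terminal.from X)).appTop (ores (htop (U j)) a) *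
    ((pullback.fst (𝒰.f i ≫ terminal.from X) (𝒰.f j ≫ terminal.from X)).appTop (ores (htop (U i)) ψ)) ^ n, ?_⟩
  rw [map_mul, map_pow, ← CommRingCat.comp_apply, ← CommRingCat.comp_apply, ← Scheme.Hom.comp_appTop,
    ← Scheme.Hom.comp_appTop, hfst, hsnd, Scheme.homOfLE_appTop, Scheme.homOfLE_appTop]
  have := congrArg (ores (htop (U i ⊓ U j))) hy
  simp only [y', map_mul, map_pow, ores_ores] at this
  have hid : ores ((htop (U i ⊓ U j)).trans (U i ⊓ U j).ι_image_top.ge) y = y := by
    simp [ores]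
  rw [hid] at this
  refine Eq.trans ?_ this.symm
  show ores _ (ores _ a) * ores _ (ores _ ψ) ^ n = _
  rw [ores_ores, ores_ores]
  rfl

end Groth.Agent.GenLocus
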