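import Groth.Agent.GenLocus.Basic
import Groth.Agent.SiteBase.ModTensor
import Groth.Agent.QCohBase.Qcqs

/-!
# Frames of tensor products
-/

set_option autoImplicit false
set_option backward.isDefEq.respectTransparency false
set_option backward.isDefEq.respectTransparency.types false

noncomputable section

universe u

open CategoryTheory Limits AlgebraicGeometry Opposite TopologicalSpace
open Groth.Agent.QCohBase
open scoped TensorProduct

namespace Groth.Agent.GenLocus

/-- Tensor products of bases of free rank one modules. -/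
lemma bijective_smul_tmul {R A B : Type*} [CommRing R] [AddCommGroup A] [Module R A]
    [AddCommGroup B] [Module R B] (a : A) (b : B) (ha : Function.Bijective fun r : R ↦ r • a)
    (hb : Function.Bijective fun r : R ↦ r • b) :
    Function.Bijective fun r : R ↦ r • (a ⊗ₜ[R] b) := by
  let ea := LinearEquiv.ofBijective (LinearMap.toSpanSingleton R A a) ha
  let eb := LinearEquiv.ofBijective (LinearMap.toSpanSingleton R B b) hb
  let e := (TensorProduct.lid R R).symm ≪≫ₗ TensorProduct.congr ea eb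
  have : (fun r : R ↦ r • (a ⊗ₜ[R] b)) = e := funext fun r ↦ by
    simp [e, ea, eb, TensorProduct.lid_symm_apply, TensorProduct.tmul_smul]
  rw [this]
  exact e.bijective

variable {X : Scheme.{u}} (M N : X.Modules)

/-- The map from the sectionwise tensor product, on sections. -/
abbrev toT (U : X.Opens) (x : (CohB1.tensorPre M N).obj (op U)) : Γ(CohB1.tensorMod M N, U) :=
  ((SecTwist.toTensor M N).app (op U)).hom x

lemma toT_res {U V : X.Opens} (h : V ≤ U) (x : (CohB1.tensorPre M N).obj (op U)) :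
    mres _ h (toT M N U x) = toT M N V ((CohB1.tensorPre M N).map (homOfLE h).op x) :=
  (PresheafOfModules.naturality_apply (SecTwist.toTensor M N) (homOfLE h).op x).symm

lemma toT_smul_tmul {U : X.Opens} (r : Γ(X, U)) (a : Γ(M, U)) (b : Γ(N, U)) :
    toT M N U (r • (a ⊗ₜ[Γ(X, U)] b)) = r • SecTwist.tmul M N U a b :=
  map_smul ((SecTwist.toTensor M N).app (op U)).hom r _

lemma locallyInjective_toT {U : X.Opens} (x y : (CohB1.tensorPre M N).obj (op U))
    (h : toT M N U x = toT M N U y) {p : X} (hp : p ∈ U) :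
    ∃ (V : X.Opens) (hV : V ≤ U), p ∈ V ∧
      (CohB1.tensorPre M N).map (homOfLE hV).op x = (CohB1.tensorPre M N).map (homOfLE hV).op y := by
  haveI := SiteBase.isLocallyInjective_unit (O := X.sheaf) (CohB1.tensorPre M N)
  have := Presheaf.equalizerSieve_mem (Opens.grothendieckTopology X)
    ((PresheafOfModules.toPresheaf _).map ((SiteBase.shAdj X.sheaf).unit.app (CohB1.tensorPre M N)))
    (X := op U) x y h
  obtain ⟨V, i, hi, hpV⟩ := this p hp
  exact ⟨V, i.le, hpV, hi⟩

lemma locallySurjective_toT {U : X.Opens} (σ : Γ(CohB1.tensorMod M N, U)) {p : X} (hp : p ∈ U) :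
    ∃ (V : X.Opens) (hV : V ≤ U) (x : (CohB1.tensorPre M N).obj (op V)), p ∈ V ∧
      toT M N V x = mres _ hV σ := by
  haveI := SiteBase.isLocallySurjective_unit (O := X.sheaf) (CohB1.tensorPre M N)
  have := Presheaf.imageSieve_mem (Opens.grothendieckTopology X)
    ((PresheafOfModules.toPresheaf _).map ((SiteBase.shAdj X.sheaf).unit.app (CohB1.tensorPre M N)))
    (U := op U) σ
  obtain ⟨V, i, ⟨x, hx⟩, hpV⟩ := this p hp
  exact ⟨V, i.le, x, hpV, hx⟩

/-- The tensor product of two frames is a frame. -/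
theorem IsFrame.tmul {M N : X.Modules} {U : X.Opens} {e : Γ(M, U)} {e' : Γ(N, U)}
    (he : IsFrame M e) (he' : IsFrame N e') : IsFrame (CohB1.tensorMod M N) (SecTwist.tmul M N U e e') := by
  have hpre : ∀ (W : X.Opens) (hW : W ≤ U), Function.Bijective fun r : Γ(X, W) ↦
      r • (mres M hW e ⊗ₜ[Γ(X, W)] mres N hW e') :=
    fun W hW ↦ bijective_smul_tmul _ _ (he W hW) (he' W hW)
  have hres : ∀ (W : X.Opens) (hW : W ≤ U),
      mres (CohB1.tensorMod M N) hW (SecTwist.tmul M N U e e') =
        SecTwist.tmul M N W (mres M hW e) (mres N hW e') :=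
    fun W hW ↦ SecTwist.map_tmul M N (homOfLE hW) e e'
  have hmap : ∀ (W W' : X.Opens) (h : W' ≤ W) (hW : W ≤ U) (r : Γ(X, W)),
      (CohB1.tensorPre M N).map (homOfLE h).op (r • (mres M hW e ⊗ₜ[Γ(X, W)] mres N hW e')) =
        ores h r • (mres M (h.trans hW) e ⊗ₜ[Γ(X, W')] mres N (h.trans hW) e') := fun W W' h hW r ↦ by
    refine ((CohB1.tensorPre M N).map_smul (homOfLE h).op r _).trans ?_
    exact congrArg (ores h r • ·) (congrArg₂ (· ⊗ₜ[Γ(X, W')] ·) (mres_mres M hW h e) (mres_mres N hW h e'))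
  have hinj : ∀ (W : X.Opens) (hW : W ≤ U) (r r' : Γ(X, W)),
      r • mres (CohB1.tensorMod M N) hW (SecTwist.tmul M N U e e') =
        r' • mres (CohB1.tensorMod M N) hW (SecTwist.tmul M N U e e') → r = r' := by
    intro W hW r r' hrr
    rw [hres, ← toT_smul_tmul, ← toT_smul_tmul] at hrr
    choose V hV hpV hVeq using fun p : W ↦ locallyInjective_toT M N _ _ hrr p.2
    refine TopCat.Sheaf.eq_of_locally_eq' X.sheaf V W (fun p ↦ homOfLE (hV p))
      (fun p hp ↦ Opens.mem_iSup.mpr ⟨⟨p, hp⟩, hpV _⟩) r r' fun p ↦ ?_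
    have := hVeq p
    rw [hmap _ _ (hV p) hW r, hmap _ _ (hV p) hW r'] at this
    exact (hpre _ ((hV p).trans hW)).1 this
  intro W hW
  refine ⟨fun r r' h ↦ hinj W hW r r' h, fun σ ↦ ?_⟩
  choose V hV x hpV hx using fun p : W ↦ locallySurjective_toT M N σ p.2
  choose r hr using fun p : W ↦ (hpre (V p) ((hV p).trans hW)).2 (x p)
  have hσ : ∀ p : W, r p • mres (CohB1.tensorMod M N) ((hV p).trans hW) (SecTwist.tmul M N U e e') = mres _ (hV p) σ :=
    fun p ↦ by rw [hres, ← toT_smul_tmul]; exact (congrArg (toT M N (V p)) (hr p)).trans (hx p)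
  have hcov : W ≤ iSup V := fun p hp ↦ Opens.mem_iSup.mpr ⟨⟨p, hp⟩, hpV _⟩
  obtain ⟨t, ht, -⟩ := TopCat.Sheaf.existsUnique_gluing' X.sheaf V W (fun p ↦ homOfLE (hV p)) hcov r
    (fun p q ↦ hinj (V p ⊓ V q) (inf_le_left.trans ((hV p).trans hW)) _ _ (by
      have e1 := congrArg (mres _ (inf_le_left : V p ⊓ V q ≤ V p)) (hσ p)
      have e2 := congrArg (mres _ (inf_le_right : V p ⊓ V q ≤ V q)) (hσ q)
      simp only [mres_smul, mres_mres] at e1 e2
      exact e1.trans e2.symm))
  refine ⟨t, eq_of_iSup_le (CohB1.tensorMod M N) V hV hcov _ _ fun p ↦ ?_⟩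
  simp only [mres_smul, mres_mres]
  rw [show ores (hV p) t = r p from ht p]
  exact hσ p

end Groth.Agent.GenLocus
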