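import Groth.Agent.GenLocus.Rel
import Groth.Agent.GenLocus.Ample
import Groth.Agent.GenLocus.Extend

/-!
# Invertible modules are trivial near finitely many points of an affine open
-/

set_option autoImplicit false
set_option backward.isDefEq.respectTransparency false
set_option backward.isDefEq.respectTransparency.types false

noncomputable section

universe u

open CategoryTheory Limits AlgebraicGeometry Opposite TopologicalSpace
open Groth.Agent.QCohBase

namespace Groth.Agent.GenLocus

variable {X : Scheme.{u}}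

theorem nonempty_triv_genLocus {L : X.Modules} (s : Coh.structureModule X ⟶ L) :
    Nonempty (L.restrict (CohB1.genLocus L s).ι ≅ Coh.structureModule ↑(CohB1.genLocus L s)) := by
  have := (isIso_restrict_iff s _).mpr (isFrame_sect_genLocus s)
  exact ⟨(asIso ((Scheme.Modules.restrictFunctor (CohB1.genLocus L s).ι).map s)).symm ≪≫
    Scheme.Modules.restrictUnitIso _⟩

theorem exists_affine_triv_of_finite {L : X.Modules} (hL : PicF.IsInvertible L) {A : X.Opens}
    (hA : IsAffineOpen A) {T : Set X} (hT : T.Finite) (hTA : T ⊆ A) :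
    ∃ C : X.Opens, IsAffineOpen C ∧ T ⊆ C ∧ C ≤ A ∧
      Nonempty (L.restrict C.ι ≅ Coh.structureModule (C : Scheme.{u})) := by
  have : IsAffine (A : Scheme.{u}) := hA
  obtain ⟨s, hs, hTs, -⟩ := exists_affine_genLocus_of_isQuasiAffine (TensorMod.isInvertible_restrict hL A.ι)
    (hT.preimage A.ι.isOpenEmbedding.injective.injOn) ⊤ (fun _ _ ↦ trivial)
  obtain ⟨t⟩ := nonempty_triv_genLocus s
  let B := CohB1.genLocus (L.restrict A.ι) s
  let C := A.ι ''ᵁ B
  let e := A.ι.isoImage B
  have h1 : (L.restrict C.ι).restrict e.hom ≅ (L.restrict A.ι).restrict B.ι :=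
    (Scheme.Modules.restrictFunctorComp e.hom C.ι).symm.app L ≪≫
      (Scheme.Modules.restrictFunctorCongr (A.ι.isoImage_hom_ι B)).app L ≪≫
      (Scheme.Modules.restrictFunctorComp B.ι A.ι).app L
  have h2 : (L.restrict C.ι) ≅ ((L.restrict C.ι).restrict e.hom).restrict e.inv :=
    (Scheme.Modules.restrictFunctorId.symm.app _) ≪≫
      (Scheme.Modules.restrictFunctorCongr e.inv_hom_id.symm).app _ ≪≫
      (Scheme.Modules.restrictFunctorComp e.inv e.hom).app _
  refine ⟨C, hs.image_of_isOpenImmersion A.ι, fun x hx ↦ ⟨⟨x, hTA hx⟩, hTs hx, rfl⟩, ?_,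
    ⟨h2 ≪≫ (Scheme.Modules.restrictFunctor e.inv).mapIso (h1 ≪≫ t) ≪≫ Scheme.Modules.restrictUnitIso e.inv⟩⟩
  exact (A.ι.image_le_opensRange B).trans_eq A.opensRange_ι

end Groth.Agent.GenLocus
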